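import Groth.Agent.ValFlatten.AwayStage

/-!
# Flattening by a blow-up supported on a principal divisor, affine case (helper92)
-/

set_option autoImplicit false
set_option linter.style.haveILetI false

universe u

open TensorProduct Groth.RaynaudGruson.Flattening

namespace Groth.ValFlatten

variable {R : Type u} [CommRing R] {a : R} {σ κ : Type u} {m : ℕ}

/-- A chart flattening the strict transform. -/
def IsGoodChart (a : R) (F : κ → Fin m → MvPolynomial σ R) (i : Ideal R × R) : Prop :=
  i.1.FG ∧ i.1 ≤ Ideal.span {a} ∧ a ∈ i.1.radical ∧ i.2 ∈ i.1 ∧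
    ∀ (R' : Type u) [CommRing R'] [Algebra R R'],
      algebraMap R R' i.2 ∈ nonZeroDivisors R' →
      i.1.map (algebraMap R R') = Ideal.span {algebraMap R R' i.2} →
      Module.Flat R' (Pres (mapRel F R') ⧸ tors (Pres (mapRel F R')) (algebraMap R R' i.2))

/-- Covering a valuation. -/
def Covers {K : Type u} [Field K] (φ : R →+* K) (W : ValuationSubring K) (i : Ideal R × R) : Prop :=
  φ i.2 ≠ 0 ∧ ∀ x ∈ i.1, ∃ w ∈ W, φ x = φ i.2 * w

variable [Finite σ] [Finite κ] {F : κ → Fin m → MvPolynomial σ R}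

set_option maxHeartbeats 1000000 in
/-- Every valuation is covered by a good chart. -/
theorem exists_covering_chart
    (hH : ∀ (C : Type u) [CommRing C] [Algebra R C], IsUnit (algebraMap R C a) →
      Module.Flat C (Pres (mapRel F C)))
    {K : Type u} [Field K] (φ : R →+* K) (W : ValuationSubring K) (hφ : ∀ x, φ x ∈ W) (ha : φ a ≠ 0) :
    ∃ i, IsGoodChart a F i ∧ Covers φ W i := by
  classical
  let φW : R →+* W := φ.codRestrict W.toSubring hφ
  let h : W := φW a
  have hh : h ≠ 0 := fun h0 => ha (congrArg Subtype.val h0)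
  have hpow : ∀ n : ℕ, h ^ n ≠ 0 := fun n => pow_ne_zero n hh
  -- the largest prime avoiding `a`
  let q : Ideal W :=
    { carrier := {x | ¬ ∃ n : ℕ, x ∣ h ^ n}
      zero_mem' := fun ⟨n, hn⟩ => hpow n (zero_dvd_iff.mp hn)
      add_mem' := by
        rintro x y hx hy ⟨n, hn⟩
        rcases ValuationRing.dvd_total x y with hxy | hyx
        · exact hx ⟨n, (dvd_add dvd_rfl hxy).trans hn⟩
        · exact hy ⟨n, (dvd_add hyx dvd_rfl).trans hn⟩
      smul_mem' := fun r x hx ⟨n, hn⟩ => hx ⟨n, (dvd_mul_left x r).trans hn⟩ }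
  have hq : ∀ x, x ∉ q ↔ ∃ n : ℕ, x ∣ h ^ n := fun x => not_not
  haveI : q.IsPrime := by
    refine ⟨fun htop => ((Ideal.eq_top_iff_one q).mp htop) ⟨0, by simp⟩, fun {x y} hxy => ?_⟩
    by_contra hc
    rw [not_or, hq, hq] at hc
    obtain ⟨⟨n, hn⟩, k, hk⟩ := hc
    exact hxy ⟨n + k, by rw [pow_add]; exact mul_dvd_mul hn hk⟩
  let p : Ideal R := q.comap φW
  let ι : p.ResidueField →+* q.ResidueField := Ideal.ResidueField.map p q φW rfl
  let res : W →+* q.ResidueField := algebraMap W q.ResidueField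
  have hι : ∀ x, ι (algebraMap R p.ResidueField x) = res (φW x) := fun x =>
    Ideal.ResidueField.map_algebraMap p q φW rfl x
  let V : ValuationSubring p.ResidueField :=
    { toSubring := res.range.comap ι
      mem_or_inv_mem' := fun z => by
        obtain ⟨x, y, hy, hxy⟩ := IsFractionRing.div_surjective (A := W ⧸ q) (ι z)
        obtain ⟨x, rfl⟩ := Ideal.Quotient.mk_surjective x
        obtain ⟨y, rfl⟩ := Ideal.Quotient.mk_surjective y
        have hy0 : res y ≠ 0 := fun h0 => nonZeroDivisors.ne_zero hy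
          (Ideal.Quotient.eq_zero_iff_mem.mpr (Ideal.algebraMap_residueField_eq_zero.mp h0))
        have hxy' : ι z = res x / res y := hxy.symm
        rcases ValuationRing.dvd_total x y with ⟨c, hc⟩ | ⟨c, hc⟩
        · right
          show ι z⁻¹ ∈ res.range
          refine ⟨c, ?_⟩
          rw [map_inv₀, hxy', inv_div, hc, map_mul]
          have hx0 : res x ≠ 0 := fun h0 => hy0 (by rw [hc, map_mul, h0, zero_mul])
          rw [mul_div_cancel_left₀ _ hx0]
        · left
          show ι z ∈ res.range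
          refine ⟨c, ?_⟩
          rw [hxy', hc, map_mul, mul_div_cancel_left₀ _ hy0] }
  have hV : ∀ z, z ∈ V ↔ ∃ w, res w = ι z := fun z => Iff.rfl
  have hC : Pair.Centred a p V :=
    { notMem := fun hm => (hq h).mpr ⟨1, by rw [pow_one]⟩ hm
      algebraMap_mem := fun x => (hV _).mpr ⟨φW x, (hι x).symm⟩
      cofinal := by
        intro x hx hx0
        obtain ⟨w, hw⟩ := (hV x).mp hx
        have hwq : w ∉ q := fun hwq => hx0 (ι.injective (by
          rw [← hw, map_zero]; exact Ideal.algebraMap_residueField_eq_zero.mpr hwq))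
        obtain ⟨n, c, hc⟩ := (hq w).mp hwq
        refine ⟨n, algebraMap R p.ResidueField a ^ n / x, (hV _).mpr ⟨c, ?_⟩, mul_div_cancel₀ _ hx0⟩
        rw [map_div₀, map_pow, hι, ← hw, ← map_pow, hc, map_mul, mul_div_cancel_left₀]
        rw [hw]
        exact fun h0 => hx0 (ι.injective (h0.trans (map_zero ι).symm)) }
  obtain ⟨i, hi⟩ := exists_chart hC F hH
  refine ⟨(i.J, i.d), ⟨i.fg, i.le_span, i.mem_radical, i.mem, hi⟩, ?_⟩
  have hdq : φW i.d ∉ q := i.notMem
  have hd0 : φ i.d ≠ 0 := fun h0 => hdq ((Subtype.ext h0 : φW i.d = 0) ▸ q.zero_mem)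
  refine ⟨hd0, fun x hx => ?_⟩
  obtain ⟨y, hy, hxy⟩ := i.div x hx
  obtain ⟨w, hw⟩ := (hV y).mp hy
  have hmem : φW x - φW i.d * w ∈ q := by
    rw [← Ideal.algebraMap_residueField_eq_zero]
    show res _ = 0
    rw [map_sub, map_mul, hw, ← hι, ← hι, ← map_mul, hxy, sub_self]
  obtain ⟨c, hc⟩ : φW i.d ∣ φW x - φW i.d * w := by
    rcases ValuationRing.dvd_total (φW i.d) (φW x - φW i.d * w) with hd | hd
    · exact hd
    · obtain ⟨n, hn⟩ := (hq _).mp hdq
      exact absurd ⟨n, hd.trans hn⟩ hmem
  refine ⟨((w + c : W) : K), (w + c).2, ?_⟩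
  have h3 := congrArg Subtype.val (sub_eq_iff_eq_add.mp hc)
  push_cast at h3 ⊢
  rw [show φ x = (φW x : K) from rfl, show φ i.d = (φW i.d : K) from rfl, h3]
  ring

/-- A valuation ring dominating a prime of a domain inside a field. -/
theorem exists_valuationSubring_dominating {D K : Type u} [CommRing D] [Field K] (f : D →+* K)
    (hf : Function.Injective f) (P : Ideal D) [P.IsPrime] :
    ∃ W : ValuationSubring K, (∀ z, f z ∈ W) ∧ (∀ z ∈ P, ∀ w ∈ W, f z * w ≠ 1) ∧
      ∀ z ∉ P, ∃ v ∈ W, f z * v = 1 := by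
  classical
  haveI : IsDomain D := hf.isDomain f
  let g : Localization.AtPrime P →+* K := IsLocalization.lift (M := P.primeCompl) (g := f) fun y =>
    (Ne.isUnit fun h0 => y.2 (by
      rw [← map_zero f] at h0
      rw [hf h0]; exact P.zero_mem))
  obtain ⟨W, hW⟩ := (LocalSubring.range g).exists_le_valuationSubring
  obtain ⟨hle, hloc⟩ := hW
  have hmem : ∀ z, g z ∈ W := fun z => hle ⟨z, rfl⟩
  have hgf : ∀ z, g (algebraMap D _ z) = f z := fun z => IsLocalization.lift_eq _ z
  refine ⟨W, fun z => hgf z ▸ hmem _, fun z hz w hw hzw => ?_, fun z hz => ?_⟩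
  swap
  · obtain ⟨u, hu⟩ := IsLocalization.map_units (Localization.AtPrime P) (⟨z, hz⟩ : P.primeCompl)
    exact ⟨g ↑u⁻¹, hmem _, by rw [← hgf, ← map_mul, show algebraMap D _ z = (↑u : Localization.AtPrime P) from hu.symm, Units.mul_inv, map_one]⟩
  have hu : IsUnit (Subring.inclusion hle ⟨g (algebraMap D _ z), ⟨_, rfl⟩⟩) :=
    isUnit_iff_exists_inv.mpr ⟨⟨w, hw⟩, Subtype.ext (by
      show g (algebraMap D _ z) * w = 1
      rw [hgf]; exact hzw)⟩
  obtain ⟨⟨_, v, rfl⟩, hv⟩ := isUnit_iff_exists_inv.mp (hloc.map_nonunit _ hu)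
  have hv' : g (algebraMap D _ z * v) = 1 := by rw [map_mul]; exact congrArg Subtype.val hv
  have hne : ¬ IsUnit (algebraMap D (Localization.AtPrime P) z) := fun h =>
    (IsLocalization.AtPrime.isUnit_to_map_iff (Localization.AtPrime P) P z).mp h hz
  have hz' : algebraMap D (Localization.AtPrime P) z * v - 1 ∈ RingHom.ker g := by
    rw [RingHom.mem_ker, map_sub, hv', map_one, sub_self]
  have hmax : RingHom.ker g ≤ IsLocalRing.maximalIdeal (Localization.AtPrime P) :=
    IsLocalRing.le_maximalIdeal (RingHom.ker_ne_top g)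
  have h1 : algebraMap D (Localization.AtPrime P) z * v ∈ IsLocalRing.maximalIdeal _ :=
    Ideal.mul_mem_right _ _ ((IsLocalRing.mem_maximalIdeal _).mpr hne)
  have h2 := Ideal.sub_mem _ h1 (hmax hz')
  rw [sub_sub_cancel] at h2
  exact (IsLocalRing.maximalIdeal.isMaximal _).ne_top ((Ideal.eq_top_iff_one _).mpr h2)

/-- The ultrafilter equality-to-zero ideal of a product of fields. -/
def nullIdeal {ι : Type u} (K : ι → Type u) [∀ i, Field (K i)] (U : Ultrafilter ι) : Ideal (∀ i, K i) where
  carrier := {x | ∀ᶠ i in (↑U : Filter ι), x i = 0}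
  zero_mem' := Filter.Eventually.of_forall fun _ => rfl
  add_mem' hx hy := (hx.and hy).mono fun i h => by simp [h.1, h.2]
  smul_mem' c x hx := hx.mono fun i h => by simp [h]

theorem isMaximal_nullIdeal {ι : Type u} (K : ι → Type u) [∀ i, Field (K i)] (U : Ultrafilter ι) :
    (nullIdeal K U).IsMaximal := by
  classical
  refine Ideal.isMaximal_iff.mpr ⟨fun h1 => ?_, fun J x hJ hxm hxJ => ?_⟩
  · obtain ⟨i, hi⟩ := (show ∀ᶠ i in (↑U : Filter ι), (1 : ∀ i, K i) i = 0 from h1).exists
    exact one_ne_zero hi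
  · have hx : ∀ᶠ i in (↑U : Filter ι), x i ≠ 0 := Ultrafilter.eventually_not.mpr hxm
    have h2 : (1 - (fun i => (x i)⁻¹) * x : ∀ i, K i) ∈ J := hJ (hx.mono fun i hi => by
      simp [inv_mul_cancel₀ hi])
    simpa using J.add_mem h2 (J.mul_mem_left (fun i => (x i)⁻¹) hxJ)

set_option maxHeartbeats 1000000 in
/-- **Compactness**: finitely many good charts cover all valuations. -/
theorem exists_finite_charts
    (hH : ∀ (C : Type u) [CommRing C] [Algebra R C], IsUnit (algebraMap R C a) →
      Module.Flat C (Pres (mapRel F C))) :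
    ∃ G : Finset (Ideal R × R), (∀ i ∈ G, IsGoodChart a F i) ∧
      ∀ (K : Type u) [Field K] (φ : R →+* K) (W : ValuationSubring K),
        (∀ x, φ x ∈ W) → φ a ≠ 0 → ∃ i ∈ G, Covers φ W i := by
  classical
  by_contra hG
  push Not at hG
  let T := {i : Ideal R × R // IsGoodChart a F i}
  have hbad : ∀ G : Finset T, ∃ (K : Type u) (_ : Field K) (φ : R →+* K) (W : ValuationSubring K),
      (∀ x, φ x ∈ W) ∧ φ a ≠ 0 ∧ ∀ i ∈ G, ¬ Covers φ W i.1 := by
    intro G
    obtain ⟨K, hK, φ, W, h1, h2, h3⟩ := hG (G.image Subtype.val) (fun i hi => by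
      obtain ⟨i, -, rfl⟩ := Finset.mem_image.mp hi
      exact i.2)
    exact ⟨K, hK, φ, W, h1, h2, fun i hi => h3 i.1 (Finset.mem_image_of_mem _ hi)⟩
  choose K hK φ W hφ ha hno using hbad
  let U : Ultrafilter (Finset T) := Ultrafilter.of Filter.atTop
  haveI := isMaximal_nullIdeal K U
  let L := (∀ G, K G) ⧸ nullIdeal K U
  letI : Field L := Ideal.Quotient.field _
  let mk : (∀ G, K G) →+* L := Ideal.Quotient.mk _
  let Φ : R →+* L := mk.comp (Pi.ringHom φ)
  have hmk : ∀ x y, mk x = mk y ↔ ∀ᶠ G in (↑U : Filter (Finset T)), x G = y G := fun x y => by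
    rw [Ideal.Quotient.eq]
    exact ⟨fun h => h.mono fun G hG => sub_eq_zero.mp hG, fun h => h.mono fun G hG => sub_eq_zero.mpr hG⟩
  let Wd : ValuationSubring L :=
    { carrier := {z | ∃ x, mk x = z ∧ ∀ᶠ G in (↑U : Filter (Finset T)), x G ∈ W G}
      mul_mem' := by
        rintro _ _ ⟨x, rfl, hx⟩ ⟨y, rfl, hy⟩
        exact ⟨x * y, map_mul _ _ _, (hx.and hy).mono fun G h => mul_mem h.1 h.2⟩
      one_mem' := ⟨1, map_one _, Filter.Eventually.of_forall fun G => one_mem _⟩
      add_mem' := by
        rintro _ _ ⟨x, rfl, hx⟩ ⟨y, rfl, hy⟩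
        exact ⟨x + y, map_add _ _ _, (hx.and hy).mono fun G h => add_mem h.1 h.2⟩
      zero_mem' := ⟨0, map_zero _, Filter.Eventually.of_forall fun G => zero_mem _⟩
      neg_mem' := by
        rintro _ ⟨x, rfl, hx⟩
        exact ⟨-x, map_neg _ _, hx.mono fun G h => neg_mem h⟩
      mem_or_inv_mem' := by
        intro z
        obtain ⟨x, rfl⟩ := Ideal.Quotient.mk_surjective z
        rcases U.eventually_or.mp (Filter.Eventually.of_forall fun G => (W G).mem_or_inv_mem (x G)) with h | h
        · exact Or.inl ⟨x, rfl, h⟩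
        · by_cases hx : mk x = 0
          · exact Or.inl ⟨0, (map_zero mk).trans hx.symm, Filter.Eventually.of_forall fun G => zero_mem _⟩
          · refine Or.inr ⟨fun G => (x G)⁻¹, eq_inv_of_mul_eq_one_left ?_, h⟩
            show mk _ * mk x = 1
            rw [← map_mul, ← map_one mk, hmk]
            have hx' : ∀ᶠ G in (↑U : Filter (Finset T)), x G ≠ 0 :=
              Ultrafilter.eventually_not.mpr fun h0 => hx (by rw [← map_zero mk, hmk]; exact h0)
            exact hx'.mono fun G hG => inv_mul_cancel₀ hG }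
  have hΦ : ∀ x, Φ x ∈ Wd := fun x => ⟨fun G => φ G x, rfl, Filter.Eventually.of_forall fun G => hφ G x⟩
  have hΦa : Φ a ≠ 0 := fun h0 => by
    rw [← map_zero mk] at h0
    obtain ⟨G, hG⟩ := ((hmk _ _).mp h0).exists
    exact ha G hG
  obtain ⟨i, hi, hid, hiJ⟩ := exists_covering_chart hH Φ Wd hΦ hΦa
  obtain ⟨s, hs⟩ := hi.1
  have hd : ∀ᶠ G in (↑U : Filter (Finset T)), φ G i.2 ≠ 0 :=
    Ultrafilter.eventually_not.mpr fun h0 => hid (show mk (fun G => φ G i.2) = 0 by
      rw [← map_zero mk, hmk]; exact h0)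
  have hgen : ∀ᶠ G in (↑U : Filter (Finset T)), ∀ x ∈ s, ∃ w ∈ W G, φ G x = φ G i.2 * w := by
    refine (Filter.eventually_all_finset s).mpr fun x hx => ?_
    obtain ⟨_, ⟨w, rfl, hw⟩, hxw⟩ := hiJ x (hs ▸ Submodule.subset_span hx)
    have h' : ∀ᶠ G in (↑U : Filter (Finset T)), φ G x = φ G i.2 * w G :=
      (hmk (fun G => φ G x) ((fun G => φ G i.2) * w)).mp (by rw [map_mul]; exact hxw)
    exact (hw.and h').mono fun G h => ⟨w G, h.1, h.2⟩
  have hin : ∀ᶠ G in (↑U : Filter (Finset T)), (⟨i, hi⟩ : T) ∈ G :=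
    Ultrafilter.of_le _ ((Filter.eventually_ge_atTop {⟨i, hi⟩}).mono fun G hG => by simpa using hG)
  obtain ⟨G, ⟨hGd, hGs⟩, hGi⟩ := ((hd.and hgen).and hin).exists
  refine hno G _ hGi ⟨hGd, fun x hx => ?_⟩
  rw [← hs] at hx
  induction hx using Submodule.span_induction with
  | mem x hx => exact hGs x hx
  | zero => exact ⟨0, zero_mem _, by simp⟩
  | add x y _ _ hx hy =>
    obtain ⟨u, hu, hux⟩ := hx
    obtain ⟨v, hv, hvy⟩ := hy
    exact ⟨u + v, add_mem hu hv, by rw [map_add, hux, hvy, mul_add]⟩
  | smul c x _ hx =>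
    obtain ⟨u, hu, hux⟩ := hx
    exact ⟨φ G c * u, mul_mem (hφ G c) hu, by rw [smul_eq_mul, map_mul, hux]; ring⟩

set_option maxHeartbeats 1000000 in
/-- Flattening of a presented module. -/
theorem flattenable_pres
    (hH : ∀ (C : Type u) [CommRing C] [Algebra R C], IsUnit (algebraMap R C a) →
      Module.Flat C (Pres (mapRel F C))) :
    Flattenable (Ideal.span {a}) (Pres F) := by
  classical
  obtain ⟨G, hgood, hcov⟩ := exists_finite_charts hH
  let L : Ideal R := Ideal.span {a} * ∏ i ∈ G, i.1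
  have hradJ : ∀ i ∈ G, i.1.radical = (Ideal.span {a}).radical := fun i hi =>
    le_antisymm (Ideal.radical_mono (hgood i hi).2.1)
      (Ideal.radical_le_radical_iff.mpr ((Ideal.span_singleton_le_iff_mem _).mpr (hgood i hi).2.2.1))
  have hrad : L.radical = (Ideal.span {a}).radical := by
    refine le_antisymm (Ideal.radical_mono Ideal.mul_le_left) ?_
    rw [Ideal.radical_le_radical_iff, Ideal.span_singleton_le_iff_mem, Ideal.radical_mul]
    refine ⟨Ideal.le_radical (Ideal.mem_span_singleton_self a), ?_⟩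
    refine Finset.prod_induction (M := Ideal R) (fun i : Ideal R × R => i.1) (fun J => a ∈ J.radical) ?_ ?_ ?_
    · intro I J hI hJ
      rw [Ideal.radical_mul]
      exact ⟨hI, hJ⟩
    · exact Ideal.le_radical (by simp)
    · exact fun i hi => (hgood i hi).2.2.1
  have hfg : L.FG := (Submodule.fg_span_singleton a).mul
    (Finset.prod_induction (M := Ideal R) (fun i : Ideal R × R => i.1) (fun J => J.FG) (fun _ _ h h' => h.mul h')
      (by rw [Ideal.one_eq_top]; exact Ideal.fg_top _) fun i hi => (hgood i hi).1)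
  refine ⟨L, hfg, hrad, ?_⟩
  intro R' _ _ τ hτ hI M' _ _ _ _ ψ hψ
  -- replace `M'` by the presented module
  let e : M' ≃ₗ[R'] Pres (mapRel F R') := hψ.equiv.symm.trans (isBaseChange_presMap R' F).equiv
  haveI : Module.Flat R' (Pres (mapRel F R') ⧸ tors (Pres (mapRel F R')) τ) := by
    let N := Pres (mapRel F R') ⧸ tors (Pres (mapRel F R')) τ
    refine flat_descend (R := R') (A := R') (N := N) fun P hP _ => ?_
    have hL : ∀ i ∈ G, LocPrincipal (i.1.map (algebraMap R R')) := by
      intro i hi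
      obtain ⟨J, hJ⟩ : i.1 ∣ L := (Finset.dvd_prod_of_mem _ hi).mul_left _
      refine locPrincipal_of_mul (J := J.map (algebraMap R R')) ?_
      rw [← Ideal.map_mul, ← hJ, hI]
      exact locPrincipal_span hτ
    have hradτ : (Ideal.span {τ}).radical = ((Ideal.span {a}).map (algebraMap R R')).radical := by
      rw [← hI]; exact radical_map_congr hrad
    -- a neighbourhood of `P` on which the strict transform is flat
    suffices h : ∃ g ∉ P, ∀ (R'' : Type u) [CommRing R''] [Algebra R' R''] [Algebra R R'']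
        [IsScalarTower R R' R''] [IsLocalization.Away g R''],
        Module.Flat R'' (Pres (mapRel F R'') ⧸ tors (Pres (mapRel F R'')) (algebraMap R' R'' τ)) by
      obtain ⟨g, hg, hflat⟩ := h
      let R'' := Localization.Away g
      haveI : Module.Flat R' R'' := IsLocalization.flat R'' (Submonoid.powers g)
      have hdisj : Disjoint (↑(Submonoid.powers g) : Set R') (P : Set R') :=
        Set.disjoint_left.mpr fun z ⟨n, hn⟩ hz => hg (hP.mem_of_pow_mem n ((show g ^ n = z from hn) ▸ hz))
      refine ⟨R'', inferInstance, inferInstance, inferInstance, inferInstance, inferInstance,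
        ⟨P.map (algebraMap R' R''), IsLocalization.isPrime_of_isPrime_disjoint (Submonoid.powers g) R'' P hP hdisj,
          IsLocalization.under_map_of_isPrime_disjoint (Submonoid.powers g) R'' hP hdisj⟩, ?_⟩
      haveI := hflat R''
      let ρ := presMap R'' (mapRel F R')
      have hρ : IsBaseChange R'' ρ := isBaseChange_presMap R'' (mapRel F R')
      have hb := isBaseChange_torsMap (τ := τ) hρ (tensor_tors_free_of_flat_algebra (τ := τ))
      haveI : Module.Flat R'' (Pres (mapRel (mapRel F R') R'') ⧸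
          tors (Pres (mapRel (mapRel F R') R'')) (algebraMap R' R'' τ)) := by
        rw [mapRel_mapRel]; infer_instance
      haveI : Module.Flat R'' (R'' ⊗[R'] N) := Module.Flat.of_linearEquiv hb.equiv
      exact Module.Flat.trans R' R'' (R'' ⊗[R'] N)
    by_cases haP : algebraMap R R' a ∈ P
    · -- a valuation centred at `P`
      obtain ⟨Q, hQmin, hQP⟩ := Ideal.exists_minimalPrimes_le (I := (⊥ : Ideal R')) (J := P) bot_le
      have hτQ : τ ∉ Q := fun h' => notMem_nonZeroDivisors_of_mem_mem_minimalPrimes (R := R') h' hQmin hτ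
      haveI : Q.IsPrime := hQmin.1.1
      let K := Q.ResidueField
      let f : R' ⧸ Q →+* K := algebraMap (R' ⧸ Q) K
      let PQ : Ideal (R' ⧸ Q) := P.map (Ideal.Quotient.mk Q)
      haveI : PQ.IsPrime := Ideal.map_isPrime_of_surjective Ideal.Quotient.mk_surjective (by
        rw [Ideal.mk_ker]; exact hQP)
      obtain ⟨W, hW, hWP, hWu⟩ := exists_valuationSubring_dominating f (IsFractionRing.injective _ _) PQ
      let φ' : R' →+* K := f.comp (Ideal.Quotient.mk Q)
      have hφ'0 : ∀ z, φ' z = 0 ↔ z ∈ Q := fun z => by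
        rw [← Ideal.Quotient.eq_zero_iff_mem]
        show f (Ideal.Quotient.mk Q z) = 0 ↔ _
        exact map_eq_zero_iff f (IsFractionRing.injective _ _)
      have hτa : φ' (algebraMap R R' a) ≠ 0 := fun h0 => hτQ (by
        have hmem : τ ∈ ((Ideal.span {a}).map (algebraMap R R')).radical :=
          hradτ ▸ Ideal.le_radical (Ideal.mem_span_singleton_self τ)
        obtain ⟨n, hn⟩ := hmem
        rw [Ideal.map_span, Set.image_singleton] at hn
        obtain ⟨c, hc⟩ := Ideal.mem_span_singleton'.mp hn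
        exact Ideal.IsPrime.mem_of_pow_mem ‹_› n (hc ▸ Q.mul_mem_left c ((hφ'0 _).mp h0)))
      obtain ⟨i, hiG, hid, hiJ⟩ := hcov K (φ'.comp (algebraMap R R')) W
        (fun x => hW (Ideal.Quotient.mk Q (algebraMap R R' x))) hτa
      obtain ⟨g, hgP, s, hs, hdiv, hann⟩ := hL i hiG P hP
      obtain ⟨k, y, hky⟩ := hdiv _ (Ideal.mem_map_of_mem _ (hgood i hiG).2.2.2.1)
      -- `s` is divisible by `d` at the valuation
      have hall : ∀ z ∈ i.1.map (algebraMap R R'), ∃ w ∈ W, φ' z = φ' (algebraMap R R' i.2) * w := by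
        intro z hz
        induction hz using Submodule.span_induction with
        | mem x hx =>
          obtain ⟨x, hx, rfl⟩ := hx
          exact hiJ x hx
        | zero => exact ⟨0, zero_mem _, by simp⟩
        | add x y _ _ hx hy =>
          obtain ⟨u, hu, hux⟩ := hx
          obtain ⟨v, hv, hvy⟩ := hy
          exact ⟨u + v, add_mem hu hv, by rw [map_add, hux, hvy, mul_add]⟩
        | smul c x _ hx =>
          obtain ⟨u, hu, hux⟩ := hx
          exact ⟨φ' c * u, mul_mem (hW (Ideal.Quotient.mk Q c)) hu, by rw [smul_eq_mul, map_mul, hux]; ring⟩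
      obtain ⟨w, hwW, hsw⟩ := hall s hs
      have hgW : φ' g ^ k = φ' y * w := by
        apply mul_left_cancel₀ (show φ' (algebraMap R R' i.2) ≠ 0 from hid)
        rw [mul_comm, ← map_pow, ← map_mul, hky, map_mul, hsw]; ring
      have hyP : y ∉ P := by
        intro hy
        have hgk : g ^ k ∉ P := fun h' => hgP (hP.mem_of_pow_mem k h')
        have hgkQ : φ' (g ^ k) ≠ 0 := fun h0 => hgk (hQP ((hφ'0 _).mp h0))
        -- `g ^ k` is a unit of `W` since it is not in `P`
        obtain ⟨v, hv, hgv⟩ : ∃ v ∈ W, φ' (g ^ k) * v = 1 := hWu (Ideal.Quotient.mk Q (g ^ k)) (fun h' => hgk (by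
          obtain ⟨z, hz, hzz⟩ := (Ideal.mem_map_iff_of_surjective _ Ideal.Quotient.mk_surjective).mp h'
          have h5 := P.sub_mem hz (hQP (Ideal.Quotient.eq.mp hzz))
          simpa using h5))
        refine hWP _ (Ideal.mem_map_of_mem _ hy) _ (mul_mem hwW hv) ?_
        show φ' y * (w * v) = 1
        rw [← mul_assoc, ← hgW, ← map_pow]; exact hgv
      refine ⟨g * y, fun h' => (hP.mem_or_mem h').elim hgP hyP, fun R'' _ _ _ _ _ => ?_⟩
      have hu := IsLocalization.Away.algebraMap_isUnit (S := R'') (g * y)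
      rw [map_mul] at hu
      obtain ⟨hgu, hyu⟩ := IsUnit.mul_iff.mp hu
      let d'' := algebraMap R R'' i.2
      have hd'' : d'' * algebraMap R' R'' g ^ k = algebraMap R' R'' s * algebraMap R' R'' y := by
        rw [← map_pow, ← map_mul, ← hky, map_mul, mul_comm]
        rw [← IsScalarTower.algebraMap_apply R R' R'']
      have hspan : i.1.map (algebraMap R R'') = Ideal.span {d''} := by
        refine le_antisymm (Ideal.map_le_iff_le_comap.mpr fun x hx => ?_)
          ((Ideal.span_singleton_le_iff_mem _).mpr (Ideal.mem_map_of_mem _ (hgood i hiG).2.2.2.1))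
        obtain ⟨l, z, hl⟩ := hdiv _ (Ideal.mem_map_of_mem _ hx)
        rw [Ideal.mem_comap]
        refine (Ideal.unit_mul_mem_iff_mem _ ((hgu.pow l).mul hyu)).mp ?_
        have h6 := congrArg (algebraMap R' R'') hl
        rw [map_mul, map_mul, map_pow, ← IsScalarTower.algebraMap_apply] at h6
        refine Ideal.mem_span_singleton'.mpr ⟨algebraMap R' R'' g ^ k * algebraMap R' R'' z, ?_⟩
        linear_combination (algebraMap R' R'' z) * hd'' - algebraMap R' R'' y * h6
      have hnzd : d'' ∈ nonZeroDivisors R'' := by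
        rw [mem_nonZeroDivisors_iff_left]
        intro z hz
        obtain ⟨r, t, rfl⟩ := IsLocalization.exists_mk'_eq (Submonoid.powers (g * y)) z
        have h7 : algebraMap R' R'' (s * r) = 0 := by
          have h8 : d'' * algebraMap R' R'' r = 0 := by
            rw [← IsLocalization.mk'_spec R'' r t, ← mul_assoc, hz, zero_mul]
          refine (hyu.mul_right_eq_zero).mp ?_
          rw [map_mul]
          linear_combination (algebraMap R' R'' g ^ k) * h8 - (algebraMap R' R'' r) * hd''
        obtain ⟨⟨_, l, rfl⟩, hl⟩ := (IsLocalization.map_eq_zero_iff (Submonoid.powers (g * y)) R'' _).mp h7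
        obtain ⟨n, hn⟩ := hann ((g * y) ^ l * r) (by rw [mul_left_comm]; exact hl)
        rw [IsLocalization.mk'_eq_zero_iff]
        refine ⟨⟨(g * y) ^ (n + l), n + l, rfl⟩, ?_⟩
        show (g * y) ^ (n + l) * r = 0
        calc (g * y) ^ (n + l) * r = y ^ n * (g ^ n * ((g * y) ^ l * r)) := by ring
          _ = 0 := by rw [hn, mul_zero]
      have htors : tors (Pres (mapRel F R'')) (algebraMap R' R'' τ) = tors (Pres (mapRel F R'')) d'' := by
        refine tors_congr ?_
        rw [← hspan, radical_map_congr (hradJ i hiG), IsScalarTower.algebraMap_eq R R' R'', ← Ideal.map_map,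
          ← Set.image_singleton, ← Ideal.map_span]
        exact radical_map_congr (R' := R'') hradτ
      rw [htors]
      exact (hgood i hiG).2.2.2.2 R'' hnzd hspan
    · refine ⟨algebraMap R R' a, haP, fun R'' _ _ _ _ _ => ?_⟩
      have hu : IsUnit (algebraMap R R'' a) := by
        rw [IsScalarTower.algebraMap_apply R R' R'']
        exact IsLocalization.Away.algebraMap_isUnit _
      haveI := hH R'' hu
      have hτu : IsUnit (algebraMap R' R'' τ) := by
        have hmem : algebraMap R R' a ∈ (Ideal.span {τ}).radical :=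
          hradτ.symm ▸ Ideal.le_radical (Ideal.mem_map_of_mem _ (Ideal.mem_span_singleton_self a))
        obtain ⟨n, hn⟩ := hmem
        obtain ⟨c, hc⟩ := Ideal.mem_span_singleton'.mp hn
        have h9 := congrArg (algebraMap R' R'') hc
        rw [map_mul, map_pow, ← IsScalarTower.algebraMap_apply] at h9
        exact isUnit_of_mul_isUnit_right (h9 ▸ hu.pow n)
      have hbot : tors (Pres (mapRel F R'')) (algebraMap R' R'' τ) = ⊥ := by
        rw [eq_bot_iff]
        rintro x ⟨n, hn⟩
        exact (hτu.pow n).smul_eq_zero.mp hn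
      exact Module.Flat.of_linearEquiv (Submodule.quotEquivOfEqBot _ hbot)
  have hmap : (tors M' τ).map e.toLinearMap = tors (Pres (mapRel F R')) τ := by
    refine le_antisymm ?_ fun x hx => ?_
    · rintro _ ⟨x, ⟨n, hn⟩, rfl⟩
      exact ⟨n, by rw [← map_smul, hn, map_zero]⟩
    · obtain ⟨n, hn⟩ := hx
      exact ⟨e.symm x, ⟨n, by rw [← map_smul, hn, map_zero]⟩, e.apply_symm_apply x⟩
  exact Module.Flat.of_linearEquiv (Submodule.Quotient.equiv (tors M' τ) _ e hmap)

/-- **Flattening over a principal divisor.** -/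
theorem flattenable_of_flat_away {a : R} (_ha : a ∈ nonZeroDivisors R) {A : Type u} [CommRing A] [Algebra R A]
    [Algebra.FinitePresentation R A] (M : Type u) [AddCommGroup M] [Module A M] [Module R M]
    [IsScalarTower R A M] [Module.Finite A M]
    [Module.Flat R (LocalizedModule (Submonoid.powers (algebraMap R A a)) M)]
    [Module.FinitePresentation (Localization.Away (algebraMap R A a))
      (LocalizedModule (Submonoid.powers (algebraMap R A a)) M)] :
    Flattenable (Ideal.span {a}) M := by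
  obtain ⟨σ, κ, hσ, hκ, m, F, g, hg, hker⟩ := exists_pres_surjection a M (A := A)
  -- the base change to a ring where `a` is invertible is flat
  let LM := LocalizedModule (Submonoid.powers (algebraMap R A a)) M
  let lM : M →ₗ[R] LM := (LocalizedModule.mkLinearMap (Submonoid.powers (algebraMap R A a)) M).restrictScalars R
  haveI : IsLocalizedModule (Submonoid.powers a) lM := IsLocalizedModule.restrictScalars_powers a _
  let S := Submonoid.powers a
  let R₁ := Localization S
  letI : Module R₁ LM := IsLocalizedModule.module S lM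
  haveI : IsScalarTower R R₁ LM := IsLocalizedModule.isScalarTower_module S lM
  haveI : Module.Flat R₁ LM := (Module.flat_iff_of_isLocalization R₁ S LM).mpr inferInstance
  have hbc : IsBaseChange R₁ lM := IsLocalizedModule.isBaseChange S R₁ lM
  have hM : ∀ (C : Type u) [CommRing C] [Algebra R C], IsUnit (algebraMap R C a) →
      Module.Flat C (C ⊗[R] M) := by
    intro C _ _ hu
    let ψ : R₁ →+* C := IsLocalization.Away.lift (S := R₁) a hu
    letI : Algebra R₁ C := ψ.toAlgebra
    haveI : IsScalarTower R R₁ C :=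
      IsScalarTower.of_algebraMap_eq fun r => (IsLocalization.Away.lift_eq a hu r).symm
    exact (FlatMorOne.flat_iff_flat_tensor_of_isBaseChange hbc C).mp inferInstance
  have hgk : ∀ (C : Type u) [CommRing C] [Algebra R C], IsUnit (algebraMap R C a) →
      Function.Bijective (g.baseChange C) := fun C _ _ hu =>
    bijective_baseChange_of_unit_killed g hg fun z hz => by
      obtain ⟨n, hn⟩ := hker z hz
      exact ⟨a ^ n, by rw [map_pow]; exact hu.pow n, hn⟩
  have hH : ∀ (C : Type u) [CommRing C] [Algebra R C], IsUnit (algebraMap R C a) →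
      Module.Flat C (Pres (mapRel F C)) := fun C _ _ hu => by
    haveI := hM C hu
    haveI : Module.Flat C (C ⊗[R] Pres F) :=
      Module.Flat.of_linearEquiv (LinearEquiv.ofBijective _ (hgk C hu))
    exact Module.Flat.of_linearEquiv (isBaseChange_presMap C F).equiv.symm
  haveI := hσ; haveI := hκ
  obtain ⟨L, hLfg, hLrad, hL⟩ := flattenable_pres hH
  refine ⟨L, hLfg, hLrad, ?_⟩
  intro R' _ _ τ hτ hI M' _ _ _ _ φ hφ
  haveI := hL R' τ hτ hI (R' ⊗[R] Pres F) (TensorProduct.mk R R' (Pres F) 1)
    (TensorProduct.isBaseChange R (Pres F) R')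
  let f : R' ⊗[R] Pres F →ₗ[R'] M' := hφ.equiv.toLinearMap ∘ₗ g.baseChange R'
  have hf : Function.Surjective f := hφ.equiv.surjective.comp (LinearMap.lTensor_surjective R' hg)
  have hτa : τ ∈ (Ideal.span {algebraMap R R' a}).radical := by
    rw [← Set.image_singleton, ← Ideal.map_span, ← radical_map_congr hLrad, hI]
    exact Ideal.le_radical (Ideal.mem_span_singleton_self τ)
  have hkerf : LinearMap.ker f ≤ tors (R' ⊗[R] Pres F) τ := by
    intro x hx
    refine ker_baseChange_le_tors g hg (σ := a) (fun z hz => hker z hz) hτa ?_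
    exact hφ.equiv.injective (hx.trans (map_zero _).symm)
  obtain ⟨e⟩ := nonempty_quotTorsEquiv f hf hkerf
  exact Module.Flat.of_linearEquiv e.symm

end Groth.ValFlatten
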