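import Groth.Agent.ValFlatten.BlowUp
import Groth.Agent.CohTwo.PushClosed
import Groth.Agent.Pi1Desc.Family
import Groth.Agent.HTopHyper.SigmaProper

/-!
# Universally open morphisms become flat up to nilimmersion after a proper surjection (helper92)
-/

set_option autoImplicit false
set_option backward.isDefEq.respectTransparency false

universe u

open CategoryTheory CategoryTheory.Limits AlgebraicGeometry TopologicalSpace

namespace Groth.ValFlatten

variable {X Y : Scheme.{u}}

/-- A closed immersion component by component gives one on the disjoint union. -/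
theorem exists_sigma_base_change {ι : Type u} {Y' X' : ι → Scheme.{u}} (f : X ⟶ Y) (q : ∀ i, Y' i ⟶ Y)
    (r : ∀ i, X' i ⟶ pullback f (q i)) [∀ i, Surjective (r i)] :
    ∃ R : ∐ X' ⟶ pullback f (Sigma.desc q),
      (∀ (P : MorphismProperty Scheme.{u}) [IsZariskiLocalAtTarget P] [P.RespectsIso],
        (∀ i, P (r i)) → P R) ∧ Surjective R ∧
      R ≫ pullback.snd f (Sigma.desc q) = Limits.Sigma.map fun i => r i ≫ pullback.snd f (q i) := by
  let m : ∀ i, pullback f (q i) ⟶ pullback f (Sigma.desc q) := fun i =>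
    pullback.lift (pullback.fst _ _) (pullback.snd _ _ ≫ Sigma.ι Y' i)
      (by rw [pullback.condition, Category.assoc, Sigma.ι_desc])
  let R : ∐ X' ⟶ pullback f (Sigma.desc q) := Sigma.desc fun i => r i ≫ m i
  have hR : R ≫ pullback.snd f (Sigma.desc q) = Limits.Sigma.map fun i => r i ≫ pullback.snd f (q i) :=
    Sigma.hom_ext _ _ fun i => by
      rw [Sigma.ι_map, Sigma.ι_desc_assoc, Category.assoc, Category.assoc, pullback.lift_snd]
  have hm : ∀ i, IsPullback (m i) (pullback.snd f (q i)) (pullback.snd f (Sigma.desc q)) (Sigma.ι Y' i) := by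
    intro i
    refine IsPullback.of_right ?_ (pullback.lift_snd _ _ _) (IsPullback.of_hasPullback f (Sigma.desc q))
    rw [pullback.lift_fst, Sigma.ι_desc]
    exact IsPullback.of_hasPullback f (q i)
  have hsq : ∀ i, IsPullback (Sigma.ι X' i) (r i) R (m i) := by
    intro i
    refine IsPullback.of_bot ?_ (Sigma.ι_desc _ _) (hm i)
    rw [hR]
    exact Groth.Pi1Desc.isPullback_sigma_map (fun i => r i ≫ pullback.snd f (q i)) i
  haveI : ∀ i, IsOpenImmersion (m i) := fun i => MorphismProperty.of_isPullback (hm i).flip inferInstance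
  have hcov : ∀ z : ↑(pullback f (Sigma.desc q)), ∃ i w, m i w = z := by
    intro z
    obtain ⟨i, y, hy⟩ := (sigmaOpenCover Y').exists_eq (pullback.snd f (Sigma.desc q) z)
    obtain ⟨w, hw, -⟩ := Scheme.Pullback.exists_preimage_pullback (f := pullback.snd f (Sigma.desc q))
      (g := Sigma.ι Y' i) z y hy.symm
    refine ⟨i, (hm i).isoPullback.inv w, ?_⟩
    rw [← Scheme.Hom.comp_apply, (hm i).isoPullback_inv_fst, hw]
  let 𝒰 : (pullback f (Sigma.desc q)).OpenCover :=
    ⟨⟨ι, fun i => pullback f (q i), m⟩, by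
      rw [Scheme.presieve₀_mem_precoverage_iff]
      exact ⟨fun z => ⟨(hcov z).choose, (hcov z).choose_spec⟩, fun i => inferInstance⟩⟩
  refine ⟨R, fun P _ _ hP => ?_, ⟨fun z => ?_⟩, hR⟩
  · rw [IsZariskiLocalAtTarget.iff_of_openCover (P := P) 𝒰]
    intro i
    show P (pullback.snd R (m i))
    rw [← (hsq i).isoPullback_inv_snd]
    exact (MorphismProperty.cancel_left_of_respectsIso P _ _).mpr (hP i)
  · obtain ⟨i, w, rfl⟩ := hcov z
    obtain ⟨x, rfl⟩ := (r i).surjective w
    exact ⟨Sigma.ι X' i x, by rw [← Scheme.Hom.comp_apply, (hsq i).w, Scheme.Hom.comp_apply]⟩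

/-- Finite disjoint unions of proper morphisms are proper. -/
theorem isProper_sigmaDesc' {ι : Type u} [Finite ι] {Y' : ι → Scheme.{u}} (q : ∀ i, Y' i ⟶ Y)
    [∀ i, IsProper (q i)] : IsProper (Sigma.desc q) := by
  rw [IsZariskiLocalAtTarget.iff_of_openCover (P := @IsProper) Y.affineCover]
  intro j
  show IsProper (pullback.snd (Sigma.desc q) (Y.affineCover.f j))
  rw [← pullbackSymmetry_hom_comp_fst]
  refine (MorphismProperty.cancel_left_of_respectsIso @IsProper _ _).mpr ?_
  let f := Y.affineCover.f j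
  obtain ⟨R, hR, -, hRsnd⟩ := exists_sigma_base_change f q fun i => 𝟙 (pullback f (q i))
  haveI : IsIso R := hR (MorphismProperty.isomorphisms Scheme.{u}) fun i => (inferInstance : IsIso (𝟙 _))
  haveI : IsAffine (Y.affineCover.X j) := inferInstance
  have h : R ≫ pullback.fst f (Sigma.desc q) = Sigma.desc fun i => pullback.fst f (q i) := by
    haveI : Mono (Y.affineCover.f j) := inferInstance
    rw [← cancel_mono f, Category.assoc, pullback.condition, reassoc_of% hRsnd]
    exact Sigma.hom_ext _ _ fun i => by simp [pullback.condition]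
  refine (MorphismProperty.cancel_left_of_respectsIso @IsProper R _).mp ?_
  rw [h]
  exact HTopHyper.isProper_sigmaDesc _ fun i => inferInstance

set_option maxHeartbeats 1000000 in
/-- A universally open surjection of finite type onto a Noetherian scheme is flat up to a nilimmersion after
a proper surjective base change. -/
theorem exists_flat_nilImmersion [IsNoetherian Y] (f : X ⟶ Y) [LocallyOfFiniteType f] [QuasiCompact f]
    [QuasiSeparated f] [UniversallyOpen f] [Surjective f] :
    ∃ (Y' : Scheme.{u}) (q : Y' ⟶ Y) (X' : Scheme.{u}) (r : X' ⟶ pullback f q),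
      IsProper q ∧ Surjective q ∧ IsClosedImmersion r ∧ Surjective r ∧ Flat (r ≫ pullback.snd f q) := by
  classical
  haveI : Finite (irreducibleComponents ↥Y) := NoetherianSpace.finite_irreducibleComponents.to_subtype
  have hpt : ∀ Z : irreducibleComponents ↥Y, ∃ ξ : Y, closure {ξ} = (Z : Set Y) := fun Z =>
    QuasiSober.sober Z.2.1 (isClosed_of_mem_irreducibleComponents _ Z.2) |>.imp fun _ h => h
  choose ξ hξ using hpt
  let I : irreducibleComponents ↥Y → Y.IdealSheafData := fun Z =>
    Scheme.IdealSheafData.vanishingIdeal ⟨closure {ξ Z}, isClosed_closure⟩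
  haveI : ∀ Z, IsIntegral (I Z).subscheme := fun Z => CohTwo.isIntegral_closure_subscheme (ξ := ξ Z) rfl
  haveI : ∀ Z, CompactSpace (I Z).subscheme := fun Z =>
    QuasiCompact.compactSpace_of_compactSpace (I Z).subschemeι
  haveI : ∀ Z, QuasiSeparatedSpace (I Z).subscheme := fun Z =>
    quasiSeparatedSpace_of_quasiSeparated (I Z).subschemeι
  choose 𝓘 Y' hY' b X' r hb hft hgen hbp hbs hr hflat hrange using fun Z =>
    exists_flat_blowUp (pullback.snd f (I Z).subschemeι)
  let q : ∀ Z, Y' Z ⟶ Y := fun Z => b Z ≫ (I Z).subschemeι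
  let e : ∀ Z, pullback (pullback.snd f (I Z).subschemeι) (b Z) ≅ pullback f (q Z) := fun Z =>
    pullbackLeftPullbackSndIso f (I Z).subschemeι (b Z)
  haveI hrs : ∀ Z, Surjective (r Z) := by
    intro Z
    refine ⟨fun z => ?_⟩
    have hd : Dense (pullback.snd (pullback.snd f (I Z).subschemeι) (b Z) ⁻¹' {genericPoint (Y' Z)}) :=
      (genericPoint_spec (Y' Z) |> fun h => dense_iff_closure_eq.mpr h.def).preimage
        (Scheme.Hom.isOpenMap (pullback.snd (pullback.snd f (I Z).subschemeι) (b Z)))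
    have : z ∈ Set.range (r Z) := by rw [hrange Z, hd.closure_eq]; trivial
    exact this
  let r' : ∀ Z, X' Z ⟶ pullback f (q Z) := fun Z => r Z ≫ (e Z).hom
  haveI : ∀ Z, IsClosedImmersion (r' Z) := fun Z => inferInstanceAs (IsClosedImmersion (r Z ≫ (e Z).hom))
  haveI : ∀ Z, Surjective (r' Z) := fun Z => inferInstanceAs (Surjective (r Z ≫ (e Z).hom))
  obtain ⟨R, hR', hRs, hRsnd⟩ := exists_sigma_base_change f q r'
  have hR : IsClosedImmersion R := hR' @IsClosedImmersion inferInstance
  haveI : ∀ Z, IsProper (q Z) := fun Z => by haveI := hbp Z; infer_instance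
  haveI : IsProper (Sigma.desc q) := isProper_sigmaDesc' q
  refine ⟨∐ Y', Sigma.desc q, ∐ X', R, inferInstance, ⟨fun y => ?_⟩, hR, hRs, ?_⟩
  · obtain ⟨Z, hZ, hyZ⟩ : ∃ Z ∈ irreducibleComponents ↥Y, y ∈ Z :=
      ⟨irreducibleComponent y, irreducibleComponent_mem_irreducibleComponents y, mem_irreducibleComponent⟩
    have : y ∈ Set.range (I ⟨Z, hZ⟩).subschemeι := by
      rw [Groth.PropsBasic2.range_vanishingIdeal_subschemeι]
      show y ∈ closure {ξ ⟨Z, hZ⟩}
      rw [hξ]; exact hyZ
    obtain ⟨z, rfl⟩ := this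
    haveI := hbs ⟨Z, hZ⟩
    obtain ⟨w, rfl⟩ := (b ⟨Z, hZ⟩).surjective z
    refine ⟨Sigma.ι Y' ⟨Z, hZ⟩ w, ?_⟩
    rw [← Scheme.Hom.comp_apply, Sigma.ι_desc]
    rfl
  · rw [hRsnd]
    refine IsZariskiLocalAtSource.of_openCover (sigmaOpenCover X') fun Z => ?_
    show Flat (Sigma.ι X' Z ≫ Limits.Sigma.map _)
    rw [Sigma.ι_map]
    have : r' Z ≫ pullback.snd f (q Z) = r Z ≫ pullback.snd (pullback.snd f (I Z).subschemeι) (b Z) := by
      simp [r', e, q]
    rw [this]
    haveI := hflat Z
    infer_instance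

end Groth.ValFlatten
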