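import Groth.Agent.ValFlatten.Algebra
import Groth.Agent.RaynaudGruson.DomainFP
import Mathlib.Algebra.TrivSqZeroExt.Basic
import Mathlib.RingTheory.Valuation.ValuationSubring

/-!
# Flattening along one valuation ring of the fraction field of a domain, algebras and modules (helper92)
-/

set_option autoImplicit false

universe u

open TensorProduct

namespace Groth.ValFlatten

variable {A K : Type u} [CommRing A] [Field K] [Algebra A K] [IsFractionRing A K]

/-- If the algebra generated inside the generic fibre is flat, so is the base change modulo torsion. -/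
theorem flat_quotient_torsion_of_flat_adjoin {S : Type u} [CommRing S] [Algebra A S]
    {R : Type u} [CommRing R] [Algebra A R] [Algebra R K] [IsScalarTower A R K] [FaithfulSMul R K]
    (t : Finset S) (ht : Algebra.adjoin A (t : Set S) = ⊤)
    [Module.Flat R (Algebra.adjoin R (Set.range fun i : t => (1 : K) ⊗ₜ[A] (i : S)))] :
    Module.Flat R (R ⊗[A] S ⧸ Submodule.torsion R (R ⊗[A] S)) := by
  classical
  haveI : IsFractionRing R K := IsFractionRing.of_field R K fun z => by
    haveI : IsDomain A := (IsFractionRing.injective A K).isDomain _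
    obtain ⟨x, y, -, rfl⟩ := IsFractionRing.div_surjective (A := A) z
    exact ⟨algebraMap A R x, algebraMap A R y, by
      rw [← IsScalarTower.algebraMap_apply, ← IsScalarTower.algebraMap_apply]⟩
  let θ : R ⊗[A] S →ₐ[R] K ⊗[A] S := Algebra.TensorProduct.map (Algebra.ofId R K) (AlgHom.id A S)
  have hθs : ∀ s : S, θ (1 ⊗ₜ s) = 1 ⊗ₜ[A] s := fun s => by
    rw [Algebra.TensorProduct.map_tmul, map_one]; rfl
  have hbc : IsBaseChange K θ.toLinearMap := by
    refine IsBaseChange.of_comp (TensorProduct.isBaseChange A S R) ?_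
    have : θ.toLinearMap.restrictScalars A ∘ₗ TensorProduct.mk A R S 1 =
        TensorProduct.mk A K S 1 := LinearMap.ext fun s => hθs s
    rw [this]
    exact TensorProduct.isBaseChange A S K
  let G := Algebra.adjoin R (Set.range fun i : t => (1 : K) ⊗ₜ[A] (i : S))
  have hle : θ.range = G := by
    refine le_antisymm ?_ (Algebra.adjoin_le ?_)
    · rintro x ⟨y, rfl⟩
      induction y using TensorProduct.induction_on with
      | zero => simp
      | tmul r s =>
        have hs : (1 : K) ⊗ₜ[A] s ∈ G := by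
          have : s ∈ Algebra.adjoin A (t : Set S) := ht ▸ trivial
          refine Algebra.adjoin_induction (fun x hx => Algebra.subset_adjoin ⟨⟨x, hx⟩, rfl⟩) (fun a => ?_)
            (fun _ _ _ _ hx hy => by rw [tmul_add]; exact add_mem hx hy)
            (fun x y _ _ hx hy => by
              rw [← mul_one (1 : K), ← Algebra.TensorProduct.tmul_mul_tmul]; exact mul_mem hx hy) this
          rw [Algebra.algebraMap_eq_smul_one, tmul_smul, smul_tmul', ← Algebra.algebraMap_eq_smul_one,
            IsScalarTower.algebraMap_apply A R K]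
          exact Subalgebra.algebraMap_mem G (algebraMap A R a)
        show θ (r ⊗ₜ s) ∈ G
        have : θ (r ⊗ₜ s) = algebraMap R (K ⊗[A] S) r * (1 ⊗ₜ[A] s) := by
          rw [Algebra.TensorProduct.map_tmul, Algebra.TensorProduct.algebraMap_apply,
            Algebra.TensorProduct.tmul_mul_tmul, mul_one, one_mul]
          rfl
        rw [this]
        exact mul_mem (Subalgebra.algebraMap_mem _ r) hs
      | add x y hx hy =>
        show θ (x + y) ∈ G
        rw [map_add]; exact add_mem hx hy
    · rintro x ⟨i, rfl⟩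
      exact ⟨1 ⊗ₜ (i : S), hθs i⟩
  have hker := ker_eq_torsion (K := K) θ.toLinearMap hbc
  have h1 : LinearMap.range θ.toLinearMap = Subalgebra.toSubmodule G := by
    rw [← hle]; ext x; rfl
  haveI : Module.Flat R (LinearMap.range θ.toLinearMap) :=
    Module.Flat.of_linearEquiv (M := G) ((LinearEquiv.ofEq _ _ h1).trans (Subalgebra.toSubmoduleEquiv _))
  exact Module.Flat.of_linearEquiv
    ((Submodule.quotEquivOfEq _ _ hker.symm).trans θ.toLinearMap.quotKerEquivRange)

variable (A K) in
/-- `g` flattens the algebra `S`. -/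
def FlattensAlg (S : Type u) [CommRing S] [Algebra A S] (g : Finset K) : Prop :=
  ∀ (R : Type u) [CommRing R] [Algebra A R] [Algebra R K] [IsScalarTower A R K] [FaithfulSMul R K],
    (↑g : Set K) ⊆ Set.range (algebraMap R K) → Module.Flat R (R ⊗[A] S ⧸ Submodule.torsion R (R ⊗[A] S))

theorem exists_flattensAlg (S : Type u) [CommRing S] [Algebra A S] [Algebra.FiniteType A S]
    (V : ValuationSubring K) (hV : ∀ a : A, algebraMap A K a ∈ V) :
    ∃ g : Finset K, (∀ x ∈ g, x ∈ V) ∧ FlattensAlg A K S g := by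
  obtain ⟨t, ht⟩ := (inferInstance : Algebra.FiniteType A S).out
  obtain ⟨g, hgV, hg⟩ := exists_stage (fun i : t => (1 : K) ⊗ₜ[A] (i : S)) V hV
  refine ⟨g, hgV, fun R _ _ _ _ _ hR => ?_⟩
  haveI := hg R hR
  exact flat_quotient_torsion_of_flat_adjoin (K := K) t ht

/-- A retract of a module modulo torsion is the torsion quotient of the retract. -/
theorem flat_quotient_torsion_of_retract {R M N : Type u} [CommRing R] [AddCommGroup M] [Module R M]
    [AddCommGroup N] [Module R N] (i : M →ₗ[R] N) (p : N →ₗ[R] M) (h : p ∘ₗ i = LinearMap.id)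
    [Module.Flat R (N ⧸ Submodule.torsion R N)] : Module.Flat R (M ⧸ Submodule.torsion R M) := by
  have hi : ∀ x ∈ Submodule.torsion R M, i x ∈ Submodule.torsion R N := by
    rintro x ⟨a, ha⟩
    exact ⟨a, by rw [Submonoid.smul_def] at ha ⊢; rw [← map_smul, ha, map_zero]⟩
  have hp : ∀ x ∈ Submodule.torsion R N, p x ∈ Submodule.torsion R M := by
    rintro x ⟨a, ha⟩
    exact ⟨a, by rw [Submonoid.smul_def] at ha ⊢; rw [← map_smul, ha, map_zero]⟩
  refine Module.Flat.of_retract ((Submodule.torsion R M).mapQ (Submodule.torsion R N) i hi)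
    ((Submodule.torsion R N).mapQ (Submodule.torsion R M) p hp) ?_
  apply Submodule.linearMap_qext
  ext x
  exact congrArg (Submodule.Quotient.mk) (LinearMap.congr_fun h x)

/-- In a finite type algebra over a domain whose quotient by torsion is flat, the torsion is the underlying
module of a finitely generated ideal with finitely presented quotient. -/
theorem exists_torsion_ideal {R T : Type u} [CommRing R] [IsDomain R] [CommRing T] [Algebra R T]
    [Algebra.FiniteType R T] [Module.Flat R (T ⧸ Submodule.torsion R T)] :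
    ∃ J : Ideal T, (∀ x, x ∈ J ↔ x ∈ Submodule.torsion R T) ∧ J.FG ∧ Algebra.FinitePresentation R (T ⧸ J) ∧
      Module.Flat R (T ⧸ J) := by
  classical
  let J : Ideal T :=
    { carrier := Submodule.torsion R T
      add_mem' := fun hx hy => add_mem hx hy
      zero_mem' := zero_mem _
      smul_mem' := fun t x hx => by
        obtain ⟨a, ha⟩ := hx
        exact ⟨a, by rw [Submonoid.smul_def] at ha ⊢; rw [smul_comm, ha, smul_zero]⟩ }
  haveI : Module.Flat R (T ⧸ J) := Module.Flat.of_linearEquiv (M := T ⧸ Submodule.torsion R T)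
    ((Submodule.Quotient.restrictScalarsEquiv R (J : Submodule T T)).symm.trans
      (Submodule.quotEquivOfEq _ _ (Submodule.ext fun x => Iff.rfl)))
  obtain ⟨n, φ, hφ⟩ := Algebra.FiniteType.iff_quotient_mvPolynomial''.mp (inferInstance : Algebra.FiniteType R T)
  letI : Algebra (MvPolynomial (ULift.{u} (Fin n)) R) (T ⧸ J) :=
    ((Ideal.Quotient.mkₐ R J).comp (φ.comp (MvPolynomial.rename ULift.down))).toRingHom.toAlgebra
  haveI : IsScalarTower R (MvPolynomial (ULift.{u} (Fin n)) R) (T ⧸ J) :=
    IsScalarTower.of_algebraMap_eq fun r =>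
      (AlgHom.commutes ((Ideal.Quotient.mkₐ R J).comp (φ.comp (MvPolynomial.rename ULift.down))) r).symm
  have hsurj : Function.Surjective (algebraMap (MvPolynomial (ULift.{u} (Fin n)) R) (T ⧸ J)) :=
    Ideal.Quotient.mk_surjective.comp (hφ.comp (MvPolynomial.rename_surjective _ Equiv.ulift.surjective))
  haveI : Module.Finite (MvPolynomial (ULift.{u} (Fin n)) R) (T ⧸ J) :=
    Module.Finite.of_surjective (Algebra.linearMap _ _) hsurj
  haveI := RaynaudGruson.DomainFP.finitePresentation_of_flat R (MvPolynomial (ULift.{u} (Fin n)) R) (T ⧸ J)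
  have hk := Module.FinitePresentation.fg_ker (Algebra.linearMap (MvPolynomial (ULift.{u} (Fin n)) R) (T ⧸ J)) hsurj
  haveI hfp : Algebra.FinitePresentation R (T ⧸ J) :=
    Algebra.FinitePresentation.of_surjective
      (f := IsScalarTower.toAlgHom R (MvPolynomial (ULift.{u} (Fin n)) R) (T ⧸ J)) hsurj hk
  refine ⟨J, fun x => Iff.rfl, ?_, hfp, ‹_›⟩
  have := Algebra.FinitePresentation.ker_fG_of_surjective (A := MvPolynomial (ULift.{u} (Fin n)) R)
    (IsScalarTower.toAlgHom R (MvPolynomial (ULift.{u} (Fin n)) R) (T ⧸ J)) hsurj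
  have h2 : J = (RingHom.ker (IsScalarTower.toAlgHom R (MvPolynomial (ULift.{u} (Fin n)) R) (T ⧸ J)).toRingHom).map
      (φ.comp (MvPolynomial.rename ULift.down)).toRingHom := by
    conv_rhs => rw [show (IsScalarTower.toAlgHom R (MvPolynomial (ULift.{u} (Fin n)) R) (T ⧸ J)).toRingHom =
      (Ideal.Quotient.mk J).comp (φ.comp (MvPolynomial.rename ULift.down)).toRingHom from rfl,
      ← RingHom.comap_ker, Ideal.mk_ker]
    exact (Ideal.map_comap_of_surjective (φ.comp (MvPolynomial.rename ULift.down)).toRingHom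
      (hφ.comp (MvPolynomial.rename_surjective ULift.down Equiv.ulift.surjective)) J).symm
  rw [h2]
  exact this.map _

/-- All the torsion of such an algebra dies by one scalar. -/
theorem exists_torsion_killer {R T : Type u} [CommRing R] [IsDomain R] [CommRing T] [Algebra R T]
    [Algebra.FiniteType R T] [Module.Flat R (T ⧸ Submodule.torsion R T)] :
    ∃ c : R, c ≠ 0 ∧ ∀ x ∈ Submodule.torsion R T, c • x = 0 := by
  classical
  obtain ⟨J, hJ, ⟨F, hF⟩, -, -⟩ := exists_torsion_ideal (R := R) (T := T)
  have : ∀ f ∈ F, ∃ a : nonZeroDivisors R, a • f = 0 := fun f hf => (hJ f).mp (hF ▸ Ideal.subset_span hf)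
  choose! a ha using this
  refine ⟨∏ f ∈ F, (a f : R), Finset.prod_ne_zero_iff.mpr fun f _ => nonZeroDivisors.ne_zero (a f).2,
    fun x hx => ?_⟩
  have hxF : x ∈ Ideal.span (F : Set T) := hF.symm ▸ (hJ x).mpr hx
  refine Submodule.span_induction (fun f hf => ?_) (smul_zero _) (fun y z _ _ hy hz => by rw [smul_add, hy, hz, add_zero])
    (fun t y _ hy => by rw [smul_comm, hy, smul_zero]) hxF
  obtain ⟨q, hq⟩ := Finset.dvd_prod_of_mem (fun f => (a f : R)) hf
  rw [hq, mul_comm, mul_smul, ← Submonoid.smul_def, ha f hf, smul_zero]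

variable [IsDomain A]

/-- Simultaneous flattening of an algebra and of a finite module along a valuation ring. -/
theorem exists_flattens_module (S : Type u) [CommRing S] [Algebra A S] [Algebra.FiniteType A S]
    (M : Type u) [AddCommGroup M] [Module S M] [Module A M] [IsScalarTower A S M] [Module.Finite S M]
    (V : ValuationSubring K) (hV : ∀ a : A, algebraMap A K a ∈ V) :
    ∃ g : Finset K, (∀ x ∈ g, x ∈ V) ∧
      ∀ (R : Type u) [CommRing R] [Algebra A R] [Algebra R K] [IsScalarTower A R K] [FaithfulSMul R K],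
        (↑g : Set K) ⊆ Set.range (algebraMap R K) →
          Module.Flat R (R ⊗[A] S ⧸ Submodule.torsion R (R ⊗[A] S)) ∧
          Module.Flat R (R ⊗[A] M ⧸ Submodule.torsion R (R ⊗[A] M)) ∧
          ∃ c : R, c ≠ 0 ∧ (∀ x ∈ Submodule.torsion R (R ⊗[A] S), c • x = 0) ∧
            ∀ x ∈ Submodule.torsion R (R ⊗[A] M), c • x = 0 := by
  classical
  letI : Module Sᵐᵒᵖ M := Module.compHom M ((RingHom.id S).fromOpposite mul_comm)
  haveI : IsCentralScalar S M := ⟨fun r m => rfl⟩
  haveI : IsScalarTower A Sᵐᵒᵖ M := ⟨fun a s m => by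
    show (RingHom.id S).fromOpposite mul_comm (a • s) • m = a • ((RingHom.id S).fromOpposite mul_comm s • m)
    exact smul_assoc a s.unop m⟩
  let T := TrivSqZeroExt S M
  haveI : Algebra.FiniteType A T := by
    obtain ⟨t, ht⟩ := (inferInstance : Algebra.FiniteType A S).out
    obtain ⟨m, hm⟩ := (inferInstance : Module.Finite S M).fg_top
    let W : Set T := (TrivSqZeroExt.inl '' (t : Set S)) ∪ (TrivSqZeroExt.inr '' (m : Set M))
    have hinl : ∀ s : S, (TrivSqZeroExt.inl s : T) ∈ Algebra.adjoin A W := by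
      intro s
      have : s ∈ Algebra.adjoin A (t : Set S) := ht ▸ trivial
      refine Algebra.adjoin_induction (fun x hx => Algebra.subset_adjoin (Or.inl ⟨x, hx, rfl⟩))
        (fun a => Subalgebra.algebraMap_mem _ a)
        (fun _ _ _ _ hx hy => by rw [TrivSqZeroExt.inl_add]; exact add_mem hx hy)
        (fun _ _ _ _ hx hy => by rw [← TrivSqZeroExt.inl_mul_inl]; exact mul_mem hx hy) this
    have hinr : ∀ x : M, (TrivSqZeroExt.inr x : T) ∈ Algebra.adjoin A W := by
      intro x
      have : x ∈ Submodule.span S (m : Set M) := hm ▸ trivial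
      refine Submodule.span_induction (fun y hy => Algebra.subset_adjoin (Or.inr ⟨y, hy, rfl⟩))
        (by rw [TrivSqZeroExt.inr_zero]; exact zero_mem _)
        (fun _ _ _ _ hx hy => by rw [TrivSqZeroExt.inr_add]; exact add_mem hx hy)
        (fun r y _ hy => by rw [← TrivSqZeroExt.inl_mul_inr]; exact mul_mem (hinl r) hy) this
    refine ⟨Subalgebra.fg_def.mpr ⟨W, (t.finite_toSet.image _).union (m.finite_toSet.image _), ?_⟩⟩
    refine eq_top_iff.mpr fun x _ => ?_
    rw [← TrivSqZeroExt.inl_fst_add_inr_snd_eq x]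
    exact add_mem (hinl _) (hinr _)
  obtain ⟨g, hgV, hg⟩ := exists_flattensAlg T V hV
  refine ⟨g, hgV, fun R _ _ _ _ _ hR => ?_⟩
  haveI := hg R hR
  haveI : IsDomain R := (FaithfulSMul.algebraMap_injective R K).isDomain _
  obtain ⟨c, hc, hkill⟩ := exists_torsion_killer (R := R) (T := R ⊗[A] T)
  have hkill' : ∀ {N : Type u} [AddCommGroup N] [Module R N] (i : N →ₗ[R] R ⊗[A] T) (p : R ⊗[A] T →ₗ[R] N),
      p ∘ₗ i = LinearMap.id → ∀ x ∈ Submodule.torsion R N, c • x = 0 := by
    intro N _ _ i p h x hx
    obtain ⟨a, ha⟩ := hx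
    have := hkill (i x) ⟨a, by rw [Submonoid.smul_def] at ha ⊢; rw [← map_smul, ha, map_zero]⟩
    rw [← map_smul] at this
    simpa [LinearMap.congr_fun h (c • x), ← LinearMap.comp_apply, h] using congrArg p this
  have hS : ((TrivSqZeroExt.fstHom A S M).toLinearMap.baseChange R) ∘ₗ
      ((TrivSqZeroExt.inlAlgHom A S M).toLinearMap.baseChange R) = LinearMap.id := by
    apply TensorProduct.AlgebraTensorModule.ext
    intro r s; rfl
  have hM : (((TrivSqZeroExt.sndHom S M).restrictScalars A).baseChange R) ∘ₗ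
      (((TrivSqZeroExt.inrHom S M).restrictScalars A).baseChange R) = LinearMap.id := by
    apply TensorProduct.AlgebraTensorModule.ext
    intro r s; rfl
  refine ⟨flat_quotient_torsion_of_retract (N := R ⊗[A] T)
      ((TrivSqZeroExt.inlAlgHom A S M).toLinearMap.baseChange R) ((TrivSqZeroExt.fstHom A S M).toLinearMap.baseChange R) hS,
    flat_quotient_torsion_of_retract (N := R ⊗[A] T)
      (((TrivSqZeroExt.inrHom S M).restrictScalars A).baseChange R)
      (((TrivSqZeroExt.sndHom S M).restrictScalars A).baseChange R) hM, c, hc, hkill' _ _ hS, hkill' _ _ hM⟩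

end Groth.ValFlatten
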