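import Groth.Agent.ValFlatten.Ideal
import Mathlib.RingTheory.IsTensorProduct
import Mathlib.RingTheory.Localization.BaseChange

/-!
# Flattening of a finite type algebra by a birational change of the base (helper92)
-/

set_option autoImplicit false

universe u

open TensorProduct

namespace Groth.ValFlatten

/-- An element of a module dies in a localized module at the non zero divisors iff it is torsion. -/
theorem ker_eq_torsion {R K T D : Type u} [CommRing R] [CommRing K] [Algebra R K] [IsFractionRing R K]
    [AddCommGroup T] [Module R T] [AddCommGroup D] [Module R D] [Module K D] [IsScalarTower R K D]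
    (θ : T →ₗ[R] D) (hθ : IsBaseChange K θ) : LinearMap.ker θ = Submodule.torsion R T := by
  haveI : IsLocalizedModule (nonZeroDivisors R) θ :=
    (isLocalizedModule_iff_isBaseChange (nonZeroDivisors R) K θ).mpr hθ
  ext x
  rw [LinearMap.mem_ker, IsLocalizedModule.eq_zero_iff (nonZeroDivisors R), Submodule.mem_torsion_iff]

/-- **Flattening**: a finite type algebra over a domain has a nonzero finitely generated ideal such that
its base change modulo torsion is flat over every birational extension on which the ideal is invertible. -/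
theorem exists_flattening_ideal_algebra {A S : Type u} [CommRing A] [IsDomain A] [CommRing S] [Algebra A S]
    [Algebra.FiniteType A S] :
    ∃ J : Ideal A, J.FG ∧ J ≠ ⊥ ∧ ∀ (R : Type u) [CommRing R] [Algebra A R] (K : Type u) [Field K]
      [Algebra A K] [IsFractionRing A K] [Algebra R K] [IsScalarTower A R K] [FaithfulSMul R K]
      (T : Type u) [CommRing T] [Algebra A T] [Algebra R T] [IsScalarTower A R T] [Algebra S T]
      [IsScalarTower A S T] [Algebra.IsPushout A R S T],
      (∃ (a : R) (I : Ideal R), a ≠ 0 ∧ J.map (algebraMap A R) * I = Ideal.span {a}) →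
        Module.Flat R (T ⧸ Submodule.torsion R T) := by
  classical
  obtain ⟨t, ht⟩ := (inferInstance : Algebra.FiniteType A S).out
  let K₀ := FractionRing A
  let b : t → K₀ ⊗[A] S := fun i => 1 ⊗ₜ[A] (i : S)
  obtain ⟨J, hJ, hJ0, hflat⟩ := exists_flattening_ideal (A := A) (K := K₀) b
  refine ⟨J, hJ, hJ0, ?_⟩
  intro R _ _ K _ _ _ _ _ _ T _ _ _ _ _ _ _ hR
  have hinj := FaithfulSMul.algebraMap_injective R K
  let e : K ≃ₐ[A] K₀ := IsLocalization.algEquiv (nonZeroDivisors A) K K₀
  let ι : R →ₐ[A] K₀ := e.toAlgHom.comp (IsScalarTower.toAlgHom A R K)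
  letI : Algebra R K₀ := ι.toRingHom.toAlgebra
  haveI : IsScalarTower A R K₀ := IsScalarTower.of_algebraMap_eq fun x => (ι.commutes x).symm
  haveI : FaithfulSMul R K₀ := (faithfulSMul_iff_algebraMap_injective _ _).mpr (e.injective.comp hinj)
  haveI : IsDomain R := hinj.isDomain _
  haveI : IsFractionRing R K₀ := IsFractionRing.of_field R K₀ fun z => by
    obtain ⟨x, y, -, rfl⟩ := IsFractionRing.div_surjective (A := A) z
    exact ⟨algebraMap A R x, algebraMap A R y, by
      rw [← IsScalarTower.algebraMap_apply, ← IsScalarTower.algebraMap_apply]⟩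
  haveI := hflat R hR
  -- the comparison map
  let e₂ : R ⊗[A] S ≃ₐ[R] T := Algebra.IsPushout.equiv A R S T
  let θ : T →ₐ[R] K₀ ⊗[A] S :=
    (Algebra.TensorProduct.map (Algebra.ofId R K₀) (AlgHom.id A S)).comp e₂.symm.toAlgHom
  have hθs : ∀ s : S, θ (algebraMap S T s) = 1 ⊗ₜ[A] s := by
    intro s
    have : e₂.symm (algebraMap S T s) = 1 ⊗ₜ[A] s := by
      rw [AlgEquiv.symm_apply_eq, Algebra.IsPushout.equiv_tmul, map_one, one_mul]
    show Algebra.TensorProduct.map (Algebra.ofId R K₀) (AlgHom.id A S) (e₂.symm (algebraMap S T s)) = _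
    rw [this, Algebra.TensorProduct.map_tmul, map_one]
    rfl
  have hbc : IsBaseChange K₀ θ.toLinearMap := by
    have h1 : IsBaseChange R (IsScalarTower.toAlgHom A S T).toLinearMap := Algebra.IsPushout.out
    refine IsBaseChange.of_comp h1 ?_
    have : θ.toLinearMap.restrictScalars A ∘ₗ (IsScalarTower.toAlgHom A S T).toLinearMap =
        TensorProduct.mk A K₀ S 1 := LinearMap.ext fun s => hθs s
    rw [this]
    exact TensorProduct.isBaseChange A S K₀
  have hrange : θ.range = Algebra.adjoin R (Set.range b) := by
    refine le_antisymm ?_ (Algebra.adjoin_le ?_)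
    · rintro x ⟨y, rfl⟩
      obtain ⟨y, rfl⟩ := e₂.surjective y
      show θ (e₂ y) ∈ _
      have hy : θ (e₂ y) = Algebra.TensorProduct.map (Algebra.ofId R K₀) (AlgHom.id A S) y :=
        congrArg (Algebra.TensorProduct.map (Algebra.ofId R K₀) (AlgHom.id A S)) (e₂.symm_apply_apply y)
      rw [hy]
      clear hy
      induction y using TensorProduct.induction_on with
      | zero => simp
      | tmul r s =>
        have hs : (1 : K₀) ⊗ₜ[A] s ∈ Algebra.adjoin R (Set.range b) := by
          have : s ∈ Algebra.adjoin A (t : Set S) := ht ▸ trivial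
          refine Algebra.adjoin_induction (fun x hx => Algebra.subset_adjoin ⟨⟨x, hx⟩, rfl⟩) (fun a => ?_)
            (fun _ _ _ _ hx hy => by rw [tmul_add]; exact add_mem hx hy)
            (fun x y _ _ hx hy => by
              rw [← mul_one (1 : K₀), ← Algebra.TensorProduct.tmul_mul_tmul]; exact mul_mem hx hy) this
          rw [Algebra.algebraMap_eq_smul_one, tmul_smul, smul_tmul', ← Algebra.algebraMap_eq_smul_one,
            IsScalarTower.algebraMap_apply A R K₀]
          exact Subalgebra.algebraMap_mem (Algebra.adjoin R (Set.range b)) (algebraMap A R a)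
        rw [Algebra.TensorProduct.map_tmul]
        have : (Algebra.ofId R K₀ r) ⊗ₜ[A] (AlgHom.id A S s) = algebraMap R (K₀ ⊗[A] S) r * (1 ⊗ₜ[A] s) := by
          rw [Algebra.TensorProduct.algebraMap_apply, Algebra.TensorProduct.tmul_mul_tmul, mul_one, one_mul]
          rfl
        rw [this]
        exact mul_mem (Subalgebra.algebraMap_mem _ r) hs
      | add x y hx hy => rw [map_add]; exact add_mem hx hy
    · rintro x ⟨i, rfl⟩
      exact ⟨algebraMap S T i, hθs i⟩
  have hker : LinearMap.ker θ.toLinearMap = Submodule.torsion R T := ker_eq_torsion θ.toLinearMap hbc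
  have h1 : LinearMap.range θ.toLinearMap = Subalgebra.toSubmodule (Algebra.adjoin R (Set.range b)) := by
    rw [← hrange]; ext x; rfl
  haveI : Module.Flat R (LinearMap.range θ.toLinearMap) :=
    Module.Flat.of_linearEquiv (M := Algebra.adjoin R (Set.range b))
      ((LinearEquiv.ofEq _ _ h1).trans (Subalgebra.toSubmoduleEquiv _))
  exact Module.Flat.of_linearEquiv
    ((Submodule.quotEquivOfEq _ _ hker.symm).trans θ.toLinearMap.quotKerEquivRange)

end Groth.ValFlatten
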