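import Mathlib

/-!
# Flatness over a "composite" of a ring with a valuation ring

`A ⊆ O` is the preimage of a valuation subring `V` of `K` under a surjection `π : O → K`.  An
`A`-module `M` embedded in `O ⊗ M` with `O ⊗ M` flat over `O` is flat over `A`.
-/

open TensorProduct Module

namespace Groth.ValFlatten

universe u v

/-- A saturated lattice in `V^l` has a basis with a dual family. -/
lemma exists_dual_family {K : Type u} [Field K] (V : ValuationSubring K) {l : ℕ}
    (W : Submodule K (Fin l → K)) :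
    ∃ (r : ℕ) (lam θ : Fin r → Fin l → V),
      (∀ s t, ∑ i, θ s i * lam t i = if s = t then 1 else 0) ∧
      (∀ s, (fun i => (lam s i : K)) ∈ W) ∧
      (∀ w ∈ W, ∃ μ : Fin r → K, ∀ i, w i = ∑ s, μ s * (lam s i : K)) := by
  let ι : (Fin l → V) →ₗ[V] (Fin l → K) :=
    LinearMap.pi fun i => (Algebra.linearMap V K).comp (LinearMap.proj i)
  have hι : ∀ v i, ι v i = (v i : K) := fun v i => rfl
  let L : Submodule V (Fin l → V) := (W.restrictScalars V).comap ι
  have hQ : Module.Flat V ((Fin l → V) ⧸ L) := by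
    rw [Module.Flat.flat_iff_torsion_eq_bot_of_isBezout, eq_bot_iff]
    rintro q ⟨⟨a, ha⟩, haq⟩
    obtain ⟨v, rfl⟩ := L.mkQ_surjective q
    rw [Submonoid.mk_smul, ← map_smul, Submodule.mkQ_apply, Submodule.Quotient.mk_eq_zero] at haq
    rw [Submodule.mem_bot, Submodule.mkQ_apply, Submodule.Quotient.mk_eq_zero]
    have h0 : (a : K) ≠ 0 := by simpa using nonZeroDivisors.ne_zero ha
    have h1 : (a : K) • ι v ∈ W := by
      have h2 : ι (a • v) ∈ W := haq
      rwa [map_smul] at h2
    have h3 := W.smul_mem (a : K)⁻¹ h1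
    rwa [inv_smul_smul₀ h0] at h3
  have := hQ
  have := Module.free_of_flat_of_isLocalRing (R := V) (P := (Fin l → V) ⧸ L)
  obtain ⟨sec, hsec⟩ := L.mkQ.exists_rightInverse_of_surjective (Submodule.range_mkQ L)
  let p : (Fin l → V) →ₗ[V] L := LinearMap.codRestrict L (LinearMap.id - sec ∘ₗ L.mkQ) (by
    intro v
    rw [← Submodule.Quotient.mk_eq_zero L, ← Submodule.mkQ_apply]
    have h4 := LinearMap.congr_fun hsec (L.mkQ v)
    simp only [LinearMap.comp_apply, LinearMap.id_apply] at h4
    simp only [LinearMap.sub_apply, LinearMap.id_apply, LinearMap.comp_apply, map_sub, h4, sub_self])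
  have hp : ∀ x : L, p x = x := by
    intro x
    apply Subtype.ext
    have h5 : L.mkQ (x : Fin l → V) = 0 := (Submodule.Quotient.mk_eq_zero L).mpr x.2
    simp [p, LinearMap.codRestrict_apply, h5]
  have : Module.Finite V L := Module.Finite.of_surjective p fun x => ⟨x, hp x⟩
  have : Module.Projective V L := Module.Projective.of_split L.subtype p (LinearMap.ext hp)
  have := Module.free_of_flat_of_isLocalRing (R := V) (P := L)
  let b := Module.finBasis V L
  have hθ : ∀ s (v : Fin l → V), ∑ i, b.coord s (p (Pi.single i 1)) * v i = b.coord s (p v) := by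
    intro s v
    conv_rhs => rw [pi_eq_sum_univ v]
    rw [map_sum, map_sum]
    refine Finset.sum_congr rfl fun i _ => ?_
    rw [map_smul, map_smul, smul_eq_mul, mul_comm]
    congr
    funext j
    simp [Pi.single_apply, eq_comm]
  refine ⟨finrank V L, fun s => (b s : Fin l → V), fun s i => b.coord s (p (Pi.single i 1)),
    ?_, ?_, ?_⟩
  · intro s t
    rw [hθ, hp, Basis.coord_apply, Basis.repr_self, Finsupp.single_apply]
    simp [eq_comm]
  · intro s
    exact (b s).2
  · intro w hw
    obtain ⟨⟨d, hd⟩, hdw⟩ := IsLocalization.exist_integer_multiples_of_finite (nonZeroDivisors V) w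
    choose v hv using hdw
    have hvw : ι v = (d : K) • w := funext fun i => by
      rw [hι]; simpa [Algebra.smul_def] using hv i
    have hvL : v ∈ L := by
      change ι v ∈ W
      rw [hvw]
      exact W.smul_mem _ hw
    have hd0 : (d : K) ≠ 0 := by simpa using nonZeroDivisors.ne_zero hd
    refine ⟨fun s => (d : K)⁻¹ * (b.repr ⟨v, hvL⟩ s : K), fun i => ?_⟩
    have h6 : v = ∑ s, b.repr ⟨v, hvL⟩ s • (b s : Fin l → V) := by
      have h7 := congrArg Subtype.val (b.sum_repr ⟨v, hvL⟩)
      rw [Submodule.coe_sum] at h7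
      exact h7.symm
    have h8 : (v i : K) = ∑ s, (b.repr ⟨v, hvL⟩ s : K) * ((b s : Fin l → V) i : K) := by
      conv_lhs => rw [h6]
      simp [Finset.sum_apply]
    calc w i = (d : K)⁻¹ * (v i : K) := by
          rw [← hι, hvw, Pi.smul_apply, smul_eq_mul, inv_mul_cancel_left₀ hd0]
      _ = _ := by rw [h8, Finset.mul_sum]; simp [mul_assoc]

/-- **Milnor square flatness**: `A = π⁻¹(V)`, `O ⊗ M` flat over `O`, `M ⊆ O ⊗ M`. -/
theorem flat_of_milnor {A : Type u} {O : Type u} {K : Type u} {M : Type u}
    [CommRing A] [CommRing O] [Field K] [Algebra A O] (π : O →+* K) (hπ : Function.Surjective π)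
    (V : ValuationSubring K) (hinj : Function.Injective (algebraMap A O))
    (hA : ∀ o : O, (∃ a, algebraMap A O a = o) ↔ π o ∈ V)
    [AddCommGroup M] [Module A M] [Module.Flat O (O ⊗[A] M)]
    (hM : Function.Injective (fun m : M => (1 : O) ⊗ₜ[A] m)) :
    Module.Flat A M := by
  classical
  rw [Module.Flat.iff_forall_isTrivialRelation]
  intro l f x hfx
  let ι : M →ₗ[A] O ⊗[A] M := TensorProduct.mk A O M 1
  let φ := algebraMap A O
  -- the relation over `O`
  have hrel : ∑ i, φ (f i) • ι (x i) = 0 := by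
    simp_rw [φ, algebraMap_smul, ← map_smul, ← map_sum, hfx, map_zero]
  obtain ⟨k₀, c₀, z, hxz, hc₀⟩ := Module.Flat.isTrivialRelation_of_sum_smul_eq_zero hrel
  have htop : ∀ w : O ⊗[A] M, w ∈ Submodule.span O (Set.range ι) := by
    intro w
    induction w using TensorProduct.induction_on with
    | zero => exact zero_mem _
    | tmul o m =>
      have : o ⊗ₜ[A] m = o • ι m := by simp [ι, TensorProduct.smul_tmul']
      rw [this]
      exact Submodule.smul_mem _ _ (Submodule.subset_span ⟨m, rfl⟩)
    | add _ _ h1 h2 => exact add_mem h1 h2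
  have hz : ∀ j, ∃ g : M →₀ O, (g.sum fun m o => o • ι m) = z j := fun j =>
    (Finsupp.mem_span_range_iff_exists_finsupp).1 (htop (z j))
  choose g hg using hz
  let T : Finset M := Finset.univ.biUnion fun j => (g j).support
  have hzT : ∀ j, z j = ∑ t : T, g j t • ι t := by
    intro j
    rw [Finset.sum_coe_sort T (fun m => g j m • ι m), ← hg j, Finsupp.sum]
    refine Finset.sum_subset (fun m hm => Finset.mem_biUnion.2 ⟨j, Finset.mem_univ _, hm⟩) ?_
    intro m _ hm
    simp [Finsupp.notMem_support_iff.1 hm]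
  let c : Fin l → T → O := fun i t => ∑ j, c₀ i j * g j t
  have hxc : ∀ i, ι (x i) = ∑ t : T, c i t • ι t := by
    intro i
    have h : ι (x i) = ∑ j, c₀ i j • z j := hxz i
    rw [h]
    simp_rw [hzT, Finset.smul_sum, smul_smul, c, Finset.sum_smul]
    exact Finset.sum_comm
  have hc : ∀ t, ∑ i, φ (f i) * c i t = 0 := by
    intro t
    simp_rw [c, Finset.mul_sum, ← mul_assoc]
    rw [Finset.sum_comm]
    simp_rw [← Finset.sum_mul, hc₀, zero_mul, Finset.sum_const_zero]
  -- the saturated lattice
  let W : Submodule K (Fin l → K) := Submodule.span K (Set.range fun t i => π (c i t))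
  obtain ⟨r, lam, θ, hdual, hlamW, hspan⟩ := exists_dual_family V W
  have hlam' : ∀ s, ∃ u : T → K, ∑ t, u t • (fun i => π (c i t)) = fun i => (lam s i : K) :=
    fun s => (Submodule.mem_span_range_iff_exists_fun K).1 (hlamW s)
  choose u hu using hlam'
  choose ũ hũ using fun s t => hπ (u s t)
  let Λ : Fin r → Fin l → O := fun s i => ∑ t, ũ s t * c i t
  have hΛ : ∀ s i, π (Λ s i) = lam s i := by
    intro s i
    simpa [Λ, map_sum, hũ, Finset.sum_apply] using congrFun (hu s) i
  have hΛrel : ∀ s, ∑ i, φ (f i) * Λ s i = 0 := by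
    intro s
    simp_rw [Λ, Finset.mul_sum, mul_left_comm (φ (f _))]
    rw [Finset.sum_comm]
    simp_rw [← Finset.mul_sum, hc, mul_zero, Finset.sum_const_zero]
  choose μ hμ using fun t : T =>
    hspan (fun i => π (c i t)) (Submodule.subset_span ⟨t, rfl⟩)
  choose ν hν using fun t s => hπ (μ t s)
  let d : Fin l → T → O := fun i t => c i t - ∑ s, ν t s * Λ s i
  have hd : ∀ i t, π (d i t) = 0 := by
    intro i t
    simp [d, map_sum, hν, hΛ, ← hμ t i]
  -- lifts
  choose θa hθa using fun s i => (hA (hπ (θ s i : K)).choose).2 (by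
    rw [(hπ (θ s i : K)).choose_spec]; exact (θ s i).2)
  have hθπ : ∀ s i, π (φ (θa s i)) = θ s i := fun s i => by
    rw [hθa, (hπ (θ s i : K)).choose_spec]
  let n : Fin r → O ⊗[A] M := fun s => ∑ t : T, ν t s • ι t
  let q : Fin r → T → O := fun s t =>
    ∑ s', ((∑ i, φ (θa s i) * Λ s' i) - if s = s' then 1 else 0) * ν t s' +
      ∑ i, φ (θa s i) * d i t
  have hq : ∀ s t, π (q s t) = 0 := by
    intro s t
    have hh : ∀ s', π (∑ i, φ (θa s i) * Λ s' i) = if s = s' then 1 else 0 := by
      intro s'
      rw [map_sum]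
      simp_rw [map_mul, hθπ, hΛ]
      have h := congrArg (fun y : V => (y : K)) (hdual s s')
      push_cast at h
      rw [h]
      split <;> simp
    simp only [q, map_add, map_sum, map_mul, map_sub, hd, mul_zero,
      Finset.sum_const_zero, add_zero, hθπ, hΛ]
    refine Finset.sum_eq_zero fun s' _ => ?_
    have h2 := hh s'
    simp only [map_sum, map_mul, hθπ, hΛ] at h2
    rw [h2]
    split <;> simp
  -- the coefficients in `A`
  have hmem : ∀ s i, ∃ a, φ a = Λ s i := fun s i => (hA _).2 (by rw [hΛ]; exact (lam s i).2)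
  choose Λa hΛa using hmem
  let d' : Fin l → T → O := fun i t => d i t - ∑ s, Λ s i * q s t
  have hd' : ∀ i t, ∃ a, φ a = d' i t := fun i t => (hA _).2 (by
    simp [d', map_sum, hd, hq, zero_mem])
  choose da hda using hd'
  let e : Fin r → M := fun s => ∑ i, θa s i • x i
  have hsub : ∀ (a b : O) (w : O ⊗[A] M), (a - b) • w = a • w - b • w := fun a b w => by
    rw [eq_sub_iff_add_eq, ← add_smul, sub_add_cancel]
  have hxn : ∀ i, ι (x i) = ∑ s, Λ s i • n s + ∑ t : T, d i t • ι t := by
    intro i
    simp_rw [hxc i, n, Finset.smul_sum, smul_smul]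
    rw [Finset.sum_comm, ← Finset.sum_add_distrib]
    refine Finset.sum_congr rfl fun t _ => ?_
    rw [← Finset.sum_smul, ← add_smul]
    congr 1
    simp [d, mul_comm (ν t _)]
  have he : ∀ s, ι (e s) = n s + ∑ t : T, q s t • ι t := by
    intro s
    have h1 : ι (e s) = ∑ s', (∑ i, φ (θa s i) * Λ s' i) • n s' +
        ∑ t : T, (∑ i, φ (θa s i) * d i t) • ι t := by
      simp_rw [e, map_sum, map_smul]
      simp_rw [← algebraMap_smul O (θa s _), hxn, smul_add, Finset.smul_sum, smul_smul,
        Finset.sum_add_distrib, Finset.sum_smul]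
      congr 1 <;> exact Finset.sum_comm
    have h2 : ∑ t : T, q s t • ι t = ∑ s', ((∑ i, φ (θa s i) * Λ s' i) -
        if s = s' then 1 else 0) • n s' + ∑ t : T, (∑ i, φ (θa s i) * d i t) • ι t := by
      simp_rw [q, add_smul, Finset.sum_add_distrib, Finset.sum_smul, n, Finset.smul_sum, smul_smul]
      rw [Finset.sum_comm]
    rw [h1, h2, ← add_assoc]
    congr 1
    rw [Finset.sum_congr rfl fun s' (_ : s' ∈ Finset.univ) => hsub (∑ i, φ (θa s i) * Λ s' i)
      (if s = s' then (1 : O) else 0) (n s')]
    rw [Finset.sum_sub_distrib]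
    simp [ite_smul]
  let E : T ≃ Fin (Fintype.card T) := Fintype.equivFin T
  refine ⟨r + Fintype.card T,
    fun i => Fin.append (fun s => Λa s i) (fun j => da i (E.symm j)),
    Fin.append e (fun j => (E.symm j : M)), fun i => ?_, fun j => ?_⟩
  · apply hM
    change ι (x i) = ι _
    rw [Fin.sum_univ_add]
    simp only [Fin.append_left, Fin.append_right, map_add, map_sum, map_smul]
    have hsm : ∀ (a : A) (w : O ⊗[A] M), a • w = φ a • w := fun a w =>
      (algebraMap_smul O a w).symm
    simp only [hsm, hΛa, hda]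
    rw [Equiv.sum_comp E.symm (fun t : T => d' i t • ι (t : M)), hxn]
    simp_rw [he, smul_add, Finset.smul_sum, smul_smul, Finset.sum_add_distrib, d', hsub,
      Finset.sum_sub_distrib, Finset.sum_smul]
    rw [Finset.sum_comm (γ := Fin r) (α := T)]
    abel
  · apply hinj
    rw [map_zero, map_sum]
    induction j using Fin.addCases with
    | left s =>
      simp only [Fin.append_left, map_mul]
      refine Eq.trans (Finset.sum_congr rfl fun i _ => ?_) (hΛrel s)
      rw [show algebraMap A O (Λa s i) = _ from hΛa s i]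
    | right j =>
      simp only [Fin.append_right, map_mul]
      rw [Finset.sum_congr rfl fun i _ => by rw [show algebraMap A O (da i (E.symm j)) = _ from hda i _]]
      simp only [d', d, mul_sub, Finset.sum_sub_distrib]
      have hsum : ∀ (w : Fin r → O), ∑ i, φ (f i) * ∑ s, w s * Λ s i = 0 := fun w => by
        simp_rw [Finset.mul_sum, mul_left_comm (φ (f _))]
        rw [Finset.sum_comm]
        simp_rw [← Finset.mul_sum, hΛrel, mul_zero, Finset.sum_const_zero]
      rw [hc, hsum]
      have := hsum (fun s => q s (E.symm j))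
      simp_rw [mul_comm (q _ _)] at this
      rw [this, sub_zero, sub_zero]

end Groth.ValFlatten
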