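import Mathlib

/-!
# Modules over polynomial rings given by relations, and their base change (helper92)
-/

set_option autoImplicit false

universe u

open TensorProduct MvPolynomial

namespace Groth.ValFlatten

variable {σ κ : Type u} {m : ℕ}

/-- The module over `C[σ]` given by `m` generators and the relations `F`. -/
abbrev Pres {C : Type u} [CommRing C] (F : κ → Fin m → MvPolynomial σ C) : Type u :=
  (Fin m → MvPolynomial σ C) ⧸ Submodule.span (MvPolynomial σ C) (Set.range F)

/-- Apply a ring map to the coefficients. -/
noncomputable def mapVec {C C' : Type u} [CommRing C] [CommRing C'] (φ : C →+* C')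
    (v : Fin m → MvPolynomial σ C) : Fin m → MvPolynomial σ C' := fun k => MvPolynomial.map φ (v k)

@[simp] theorem mapVec_apply {C C' : Type u} [CommRing C] [CommRing C'] (φ : C →+* C')
    (v : Fin m → MvPolynomial σ C) (k : Fin m) : mapVec φ v k = MvPolynomial.map φ (v k) := rfl

theorem mapVec_mapVec {C C' C'' : Type u} [CommRing C] [CommRing C'] [CommRing C''] (φ : C →+* C')
    (ψ : C' →+* C'') (v : Fin m → MvPolynomial σ C) : mapVec ψ (mapVec φ v) = mapVec (ψ.comp φ) v :=
  funext fun k => MvPolynomial.map_map φ ψ (v k)

theorem mapVec_smul {C C' : Type u} [CommRing C] [CommRing C'] (φ : C →+* C') (p : MvPolynomial σ C)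
    (v : Fin m → MvPolynomial σ C) : mapVec φ (p • v) = MvPolynomial.map φ p • mapVec φ v :=
  funext fun k => by simp [mapVec]

theorem mapVec_add {C C' : Type u} [CommRing C] [CommRing C'] (φ : C →+* C')
    (v w : Fin m → MvPolynomial σ C) : mapVec φ (v + w) = mapVec φ v + mapVec φ w :=
  funext fun k => by simp [mapVec]

theorem mapVec_mem_span {C C' : Type u} [CommRing C] [CommRing C'] (φ : C →+* C')
    (F : κ → Fin m → MvPolynomial σ C) {v : Fin m → MvPolynomial σ C}
    (hv : v ∈ Submodule.span (MvPolynomial σ C) (Set.range F)) :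
    mapVec φ v ∈ Submodule.span (MvPolynomial σ C') (Set.range fun i => mapVec φ (F i)) := by
  induction hv using Submodule.span_induction with
  | mem x hx =>
    obtain ⟨i, rfl⟩ := hx
    exact Submodule.subset_span ⟨i, rfl⟩
  | zero => simp [show mapVec φ (0 : Fin m → MvPolynomial σ C) = 0 from funext fun k => by simp [mapVec]]
  | add x y _ _ hx hy => rw [mapVec_add]; exact add_mem hx hy
  | smul p x _ hx => rw [mapVec_smul]; exact Submodule.smul_mem _ _ hx

variable {C C' : Type u} [CommRing C] [CommRing C'] [Algebra C C'] (F : κ → Fin m → MvPolynomial σ C)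

/-- The relations over a base change. -/
noncomputable abbrev mapRel (C' : Type u) [CommRing C'] [Algebra C C'] :
    κ → Fin m → MvPolynomial σ C' := fun i => mapVec (algebraMap C C') (F i)

theorem mapRel_mapRel (C'' : Type u) [CommRing C''] [Algebra C C''] [Algebra C' C'']
    [IsScalarTower C C' C''] : mapRel (mapRel F C') C'' = mapRel F C'' := by
  funext i
  rw [mapRel, mapVec_mapVec, ← IsScalarTower.algebraMap_eq]

/-- Coefficientwise base change, as a linear map. -/
noncomputable def mapVecₗ : (Fin m → MvPolynomial σ C) →ₗ[C] (Fin m → MvPolynomial σ C') where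
  toFun := mapVec (algebraMap C C')
  map_add' := mapVec_add _
  map_smul' c v := funext fun k => by
    show MvPolynomial.map (algebraMap C C') (c • v k) = c • MvPolynomial.map (algebraMap C C') (v k)
    rw [MvPolynomial.smul_eq_C_mul, map_mul, MvPolynomial.map_C, ← MvPolynomial.smul_eq_C_mul,
      algebraMap_smul]

variable (C') in
/-- The base change map on the presented modules. -/
noncomputable def presMap : Pres F →ₗ[C] Pres (mapRel F C') :=
  Submodule.liftQ ((Submodule.span (MvPolynomial σ C) (Set.range F)).restrictScalars C)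
      (((Submodule.span (MvPolynomial σ C') (Set.range (mapRel F C'))).mkQ.restrictScalars C) ∘ₗ mapVecₗ)
      (fun v hv => by
        rw [LinearMap.mem_ker]
        exact (Submodule.Quotient.mk_eq_zero _).mpr (mapVec_mem_span (algebraMap C C') F hv))
    ∘ₗ (Submodule.Quotient.restrictScalarsEquiv C (Submodule.span (MvPolynomial σ C) (Set.range F))).symm.toLinearMap

@[simp] theorem presMap_mk (v : Fin m → MvPolynomial σ C) :
    presMap C' F (Submodule.Quotient.mk v) = Submodule.Quotient.mk (mapVec (algebraMap C C') v) := rfl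

theorem presMap_smul (p : MvPolynomial σ C) (x : Pres F) :
    presMap C' F (p • x) = MvPolynomial.map (algebraMap C C') p • presMap C' F x := by
  obtain ⟨v, rfl⟩ := Submodule.Quotient.mk_surjective _ x
  rw [← Submodule.Quotient.mk_smul, presMap_mk, presMap_mk, mapVec_smul, Submodule.Quotient.mk_smul]

variable (C') in
/-- Presented modules commute with base change. -/
theorem isBaseChange_presMap : IsBaseChange C' (presMap C' F) := by
  let f := presMap C' F
  let g : Pres F →ₗ[C] C' ⊗[C] Pres F := TensorProduct.mk C C' (Pres F) 1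
  let q := (Submodule.span (MvPolynomial σ C) (Set.range F)).mkQ
  let Ψ₀ : (Fin m → MvPolynomial σ C') →ₗ[C'] C' ⊗[C] Pres F := ∑ k : Fin m,
    ((MvPolynomial.basisMonomials σ C').constr C' fun s => g (q (Pi.single k (monomial s 1)))) ∘ₗ
      LinearMap.proj k
  have hmon : ∀ k (s : σ →₀ ℕ) (c : C'),
      Ψ₀ (Pi.single k (monomial s c)) = c • g (q (Pi.single k (monomial s 1))) := by
    intro k s c
    have : monomial s c = c • (MvPolynomial.basisMonomials σ C' s) := by
      simp [MvPolynomial.coe_basisMonomials, MvPolynomial.smul_monomial]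
    simp only [Ψ₀, LinearMap.sum_apply, LinearMap.comp_apply, LinearMap.proj_apply]
    rw [Finset.sum_eq_single k (fun j _ hj => by rw [Pi.single_eq_of_ne hj, map_zero])
      (fun h => absurd (Finset.mem_univ k) h), Pi.single_eq_same, this, map_smul, Module.Basis.constr_basis]
  have hΨ : ∀ v, Ψ₀ (mapVec (algebraMap C C') v) = g (q v) := by
    intro v
    have h0 : ((Ψ₀.restrictScalars C) ∘ₗ mapVecₗ) = g ∘ₗ q.restrictScalars C := by
      refine LinearMap.pi_ext fun k p => ?_
      induction p using MvPolynomial.induction_on' with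
      | monomial s c =>
        show Ψ₀ (mapVec (algebraMap C C') (Pi.single k (monomial s c))) = g (q (Pi.single k (monomial s c)))
        have h1 : mapVec (algebraMap C C') (Pi.single k (monomial s c)) =
            Pi.single k (monomial s (algebraMap C C' c)) := by
          funext j
          rcases eq_or_ne j k with rfl | hj
          · simp
          · simp [Pi.single_eq_of_ne hj]
        have h2 : (Pi.single k (monomial s c) : Fin m → MvPolynomial σ C) = c • Pi.single k (monomial s 1) := by
          rw [← Pi.single_smul, MvPolynomial.smul_monomial, smul_eq_mul, mul_one]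
        rw [h1, hmon, algebraMap_smul]
        conv_rhs => rw [h2, LinearMap.map_smul_of_tower q c, map_smul]
      | add x y hx hy => rw [Pi.single_add, map_add, map_add, hx, hy]
    exact LinearMap.congr_fun h0 v
  have hkill : ∀ w ∈ Submodule.span (MvPolynomial σ C') (Set.range (mapRel F C')), Ψ₀ w = 0 := by
    have key : ∀ (p : MvPolynomial σ C') (u : Fin m → MvPolynomial σ C),
        u ∈ Submodule.span (MvPolynomial σ C) (Set.range F) → Ψ₀ (p • mapVec (algebraMap C C') u) = 0 := by
      intro p
      induction p using MvPolynomial.induction_on' with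
      | monomial s c =>
        intro u hu
        have h1 : monomial s c • mapVec (algebraMap C C') u =
            c • mapVec (algebraMap C C') (monomial s (1 : C) • u) := by
          rw [mapVec_smul, MvPolynomial.map_monomial, map_one, ← smul_assoc, MvPolynomial.smul_monomial,
            smul_eq_mul, mul_one]
        rw [h1, map_smul, hΨ, show q (monomial s (1 : C) • u) = 0 from
          (Submodule.Quotient.mk_eq_zero _).mpr (Submodule.smul_mem _ _ hu), map_zero, smul_zero]
      | add x y hx hy =>
        intro u hu
        rw [add_smul, map_add, hx u hu, hy u hu, add_zero]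
    intro w hw
    suffices h : ∀ p : MvPolynomial σ C', Ψ₀ (p • w) = 0 by simpa using h 1
    induction hw using Submodule.span_induction with
    | mem x hx =>
      obtain ⟨i, rfl⟩ := hx
      exact fun p => key p _ (Submodule.subset_span ⟨i, rfl⟩)
    | zero => intro p; simp
    | add x y _ _ hx hy => intro p; rw [smul_add, map_add, hx, hy, add_zero]
    | smul r x _ hx => intro p; rw [smul_smul]; exact hx _
  let Φ := (TensorProduct.isBaseChange C (Pres F) C').lift f
  have hΦ : ∀ x, Φ (g x) = f x := (TensorProduct.isBaseChange C (Pres F) C').lift_eq f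
  refine IsBaseChange.of_equiv (LinearEquiv.ofBijective Φ ⟨?_, ?_⟩) hΦ
  · refine (injective_iff_map_eq_zero _).mpr fun z hz => ?_
    have h1 : ∀ z : C' ⊗[C] Pres F, ∃ w, Φ z = Submodule.Quotient.mk w ∧ Ψ₀ w = z := by
      intro z
      induction z with
      | zero => exact ⟨0, by simp, map_zero _⟩
      | tmul c x =>
        obtain ⟨v, rfl⟩ := Submodule.Quotient.mk_surjective _ x
        have h : c ⊗ₜ[C] (Submodule.Quotient.mk v : Pres F) = c • g (q v) := by
          simp [g, q, TensorProduct.smul_tmul']
        refine ⟨c • mapVec (algebraMap C C') v, ?_, by rw [map_smul, hΨ, h]⟩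
        rw [h, map_smul, hΦ, Submodule.Quotient.mk_smul]
        rfl
      | add x y hx hy =>
        obtain ⟨a, ha, ha'⟩ := hx
        obtain ⟨b, hb, hb'⟩ := hy
        exact ⟨a + b, by rw [map_add, ha, hb, Submodule.Quotient.mk_add], by rw [map_add, ha', hb']⟩
    obtain ⟨w, hw, hw'⟩ := h1 z
    rw [hz] at hw
    rw [← hw', hkill w ((Submodule.Quotient.mk_eq_zero _).mp hw.symm)]
  · intro y
    obtain ⟨w, rfl⟩ := Submodule.Quotient.mk_surjective _ y
    refine ⟨Ψ₀ w, ?_⟩
    let q' := (Submodule.span (MvPolynomial σ C') (Set.range (mapRel F C'))).mkQ.restrictScalars C'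
    have h0 : Φ ∘ₗ Ψ₀ = q' := by
      refine LinearMap.pi_ext fun k p => ?_
      induction p using MvPolynomial.induction_on' with
      | monomial s c =>
        rw [LinearMap.comp_apply, hmon, map_smul, hΦ]
        show c • Submodule.Quotient.mk (mapVec (algebraMap C C') (Pi.single k (monomial s 1))) =
          Submodule.Quotient.mk _
        rw [← Submodule.Quotient.mk_smul]
        congr 1
        funext j
        rcases eq_or_ne j k with rfl | hj
        · simp [MvPolynomial.smul_monomial]
        · simp [Pi.single_eq_of_ne hj]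
      | add x y hx hy => rw [Pi.single_add, map_add, map_add, hx, hy]
    exact LinearMap.congr_fun h0 w

theorem flat_pres_baseChange [Module.Flat C (Pres F)] : Module.Flat C' (Pres (mapRel F C')) :=
  Module.Flat.isBaseChange C C' (Pres F) _ (isBaseChange_presMap C' F)

/-- Vanishing of the base change along a surjection: the kernel is the ideal times the module. -/
theorem mem_smul_top_of_presMap_eq_zero (hC : Function.Surjective (algebraMap C C')) {x : Pres F}
    (hx : presMap C' F x = 0) :
    x ∈ RingHom.ker (algebraMap C C') • (⊤ : Submodule C (Pres F)) := by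
  obtain ⟨v, rfl⟩ := Submodule.Quotient.mk_surjective _ x
  rw [presMap_mk, Submodule.Quotient.mk_eq_zero] at hx
  obtain ⟨u, hu, huv⟩ : ∃ u ∈ Submodule.span (MvPolynomial σ C) (Set.range F),
      mapVec (algebraMap C C') u = mapVec (algebraMap C C') v := by
    generalize mapVec (algebraMap C C') v = w at hx
    induction hx using Submodule.span_induction with
    | mem x hx =>
      obtain ⟨i, rfl⟩ := hx
      exact ⟨F i, Submodule.subset_span ⟨i, rfl⟩, rfl⟩
    | zero => exact ⟨0, zero_mem _, funext fun k => by simp [mapVec]⟩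
    | add x y _ _ hx hy =>
      obtain ⟨a, ha, rfl⟩ := hx
      obtain ⟨b, hb, rfl⟩ := hy
      exact ⟨a + b, add_mem ha hb, mapVec_add _ _ _⟩
    | smul p x _ hx =>
      obtain ⟨a, ha, rfl⟩ := hx
      obtain ⟨p, rfl⟩ := MvPolynomial.map_surjective _ hC p
      exact ⟨p • a, Submodule.smul_mem _ _ ha, mapVec_smul _ _ _⟩
  have hv : (Submodule.Quotient.mk v : Pres F) = Submodule.Quotient.mk (v - u) := by
    rw [Submodule.Quotient.mk_sub, (Submodule.Quotient.mk_eq_zero _).mpr hu, sub_zero]
  rw [hv]
  have hcoef : ∀ k s, coeff s ((v - u) k) ∈ RingHom.ker (algebraMap C C') := by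
    intro k s
    have h := congrArg (coeff s) (congrFun huv k)
    simp only [mapVec_apply, MvPolynomial.coeff_map] at h
    rw [RingHom.mem_ker, Pi.sub_apply, MvPolynomial.coeff_sub, map_sub, h, sub_self]
  generalize v - u = w at hcoef
  rw [show w = ∑ k, ∑ s ∈ (w k).support, coeff s (w k) • Pi.single k (monomial s (1 : C)) from ?_]
  · show (Submodule.span (MvPolynomial σ C) (Set.range F)).mkQ _ ∈ _
    simp only [map_sum, LinearMap.map_smul_of_tower]
    exact sum_mem fun k _ => sum_mem fun s _ => Submodule.smul_mem_smul (hcoef k s) trivial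
  · simp_rw [← Pi.single_smul, MvPolynomial.smul_monomial, smul_eq_mul, mul_one]
    conv_lhs => rw [← Finset.univ_sum_single w]
    refine Finset.sum_congr rfl fun k _ => ?_
    conv_lhs => rw [(w k).as_sum]
    exact map_sum (AddMonoidHom.single (fun _ : Fin m => MvPolynomial σ C) k) _ _

/-- A module with finitely presented localisation is, up to torsion, given by finitely many relations. -/
theorem exists_pres_surjection {R A : Type u} [CommRing R] [CommRing A] [Algebra R A]
    [Algebra.FinitePresentation R A] (a : R) (M : Type u) [AddCommGroup M] [Module A M] [Module R M]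
    [IsScalarTower R A M] [Module.Finite A M]
    [Module.FinitePresentation (Localization.Away (algebraMap R A a))
      (LocalizedModule (Submonoid.powers (algebraMap R A a)) M)] :
    ∃ (σ κ : Type u) (_ : Finite σ) (_ : Finite κ) (m : ℕ) (F : κ → Fin m → MvPolynomial σ R)
      (g : Pres F →ₗ[R] M), Function.Surjective g ∧ ∀ x, g x = 0 → ∃ n : ℕ, a ^ n • x = 0 := by
  classical
  obtain ⟨n, π, hπ, hπker⟩ := Algebra.FinitePresentation.out (R := R) (A := A)
  let σ := ULift.{u} (Fin n)
  let π' : MvPolynomial σ R →ₐ[R] A := π.comp (MvPolynomial.renameEquiv R Equiv.ulift).toAlgHom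
  have hπ' : Function.Surjective π' := hπ.comp (AlgEquiv.surjective _)
  have hker' : (RingHom.ker π'.toRingHom).FG := by
    let e : MvPolynomial σ R ≃+* MvPolynomial (Fin n) R :=
      (MvPolynomial.renameEquiv R (Equiv.ulift : σ ≃ Fin n)).toRingEquiv
    have h := hπker.map (e.symm : MvPolynomial (Fin n) R →+* MvPolynomial σ R)
    convert h using 1
    refine Eq.trans ?_ (Ideal.map_symm e).symm
    rfl
  obtain ⟨m, f, hf⟩ := Module.Finite.exists_fin' A M
  let S := Submonoid.powers (algebraMap R A a)
  let lM := LocalizedModule.mkLinearMap S M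
  let L := Localization.Away (algebraMap R A a)
  let lA := LocalizedModule.mkLinearMap S (Fin m → A)
  let fl : LocalizedModule S (Fin m → A) →ₗ[L] LocalizedModule S M :=
    LocalizedModule.map S f
  have hfl : Function.Surjective fl := LocalizedModule.map_surjective S f hf
  have hfg := Module.FinitePresentation.fg_ker fl hfl
  have hloc : LinearMap.ker fl = (LinearMap.ker f).localized S :=
    (LinearMap.localized'_ker_eq_ker_localizedMap L S _ _ f).symm
  obtain ⟨t, ht⟩ := hfg
  have hmem : ∀ z ∈ t, ∃ x ∈ LinearMap.ker f, ∃ s : S, LocalizedModule.mk x s = z := by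
    intro z hz
    have : z ∈ (LinearMap.ker f).localized S := hloc ▸ (ht ▸ Submodule.subset_span hz)
    obtain ⟨x, hx, s, hs⟩ := this
    exact ⟨x, hx, s, by rw [IsLocalizedModule.mk_eq_mk', hs]⟩
  choose! x hx s hs using hmem
  let K₀ := Submodule.span A (↑(t.image x) : Set (Fin m → A))
  have hK₀ : ∀ v, f v = 0 → ∃ N : ℕ, algebraMap R A a ^ N • v ∈ K₀ := by
    intro v hv
    have h1 : lA v ∈ LinearMap.ker fl := by
      rw [hloc]
      exact ⟨v, hv, 1, IsLocalizedModule.mk'_one _ _ _⟩
    have h2 : lA v ∈ K₀.localized S := by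
      rw [← ht] at h1
      refine Submodule.span_le.mpr (fun z hz => ?_) h1
      refine ⟨x z, Submodule.subset_span (by simpa using ⟨z, hz, rfl⟩), s z, ?_⟩
      rw [← IsLocalizedModule.mk_eq_mk', hs z hz]
    obtain ⟨y, hy, s', hs'⟩ := h2
    rw [IsLocalizedModule.mk'_eq_iff, Submonoid.smul_def, ← map_smul] at hs'
    obtain ⟨c, hc⟩ := (IsLocalizedModule.eq_iff_exists S lA).mp hs'
    obtain ⟨i, hi⟩ := c.2
    obtain ⟨j, hj⟩ := s'.2
    refine ⟨i + j, ?_⟩
    rw [pow_add, mul_smul, show algebraMap R A a ^ i = (c : A) from hi,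
      show algebraMap R A a ^ j = (s' : A) from hj]
    have : (c : A) • ((s' : A) • v) = (c : A) • y := hc.symm
    rw [this]
    exact Submodule.smul_mem _ _ hy
  -- pull the relations back to the polynomial ring
  obtain ⟨G, hG⟩ := hker'
  choose lift hlift using hπ'
  let κ := (↥t) ⊕ (↥G × ULift.{u} (Fin m))
  let F : κ → Fin m → MvPolynomial σ R :=
    Sum.elim (fun z k => lift (x z k)) fun gk => Pi.single gk.2.down gk.1.1
  letI : Algebra (MvPolynomial σ R) A := π'.toRingHom.toAlgebra
  letI : Module (MvPolynomial σ R) M := Module.compHom M π'.toRingHom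
  haveI : IsScalarTower (MvPolynomial σ R) A M := IsScalarTower.of_algebraMap_smul fun p y => rfl
  haveI : IsScalarTower R (MvPolynomial σ R) M := IsScalarTower.of_algebraMap_smul fun r y => by
    show π' (algebraMap R _ r) • y = r • y
    rw [AlgHom.commutes, algebraMap_smul]
  let red : (Fin m → MvPolynomial σ R) →ₗ[MvPolynomial σ R] (Fin m → A) :=
    (Algebra.linearMap (MvPolynomial σ R) A).compLeft (Fin m)
  let q := f.restrictScalars (MvPolynomial σ R) ∘ₗ red
  have hq0 : Submodule.span (MvPolynomial σ R) (Set.range F) ≤ LinearMap.ker q := by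
    rw [Submodule.span_le]
    rintro _ ⟨z | ⟨g, k⟩, rfl⟩
    · show f (fun j => π' (lift (x z j))) = 0
      simp only [hlift]
      exact hx z.1 z.2
    · show f (fun j => π' ((Pi.single k.down g.1 : Fin m → MvPolynomial σ R) j)) = 0
      have hg : π' g.1 = 0 := (hG ▸ Submodule.subset_span g.2 : g.1 ∈ RingHom.ker π'.toRingHom)
      rw [show (fun j => π' ((Pi.single k.down g.1 : Fin m → MvPolynomial σ R) j)) = 0 from ?_, map_zero]
      funext j
      rcases eq_or_ne j k.down with rfl | hj
      · simpa using hg
      · simp [Pi.single_eq_of_ne hj]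
  let g₀ := Submodule.liftQ _ q hq0
  refine ⟨σ, κ, inferInstance, inferInstance, m, F, g₀.restrictScalars R, ?_, ?_⟩
  · intro y
    obtain ⟨v, rfl⟩ := hf y
    refine ⟨Submodule.Quotient.mk fun j => lift (v j), ?_⟩
    show f (fun j => π' (lift (v j))) = f v
    simp only [hlift]
  · intro y hy
    obtain ⟨w, rfl⟩ := Submodule.Quotient.mk_surjective _ y
    obtain ⟨N, hN⟩ := hK₀ (red w) hy
    refine ⟨N, ?_⟩
    rw [← Submodule.Quotient.mk_smul, Submodule.Quotient.mk_eq_zero]
    have hred : red (a ^ N • w) = algebraMap R A a ^ N • red w := by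
      rw [LinearMap.map_smul_of_tower, ← algebraMap_smul A (a ^ N), map_pow]
    -- everything in `K₀` is the reduction of a relation
    have hK : K₀.restrictScalars (MvPolynomial σ R) ≤
        (Submodule.span (MvPolynomial σ R) (Set.range F)).map red := by
      rw [Submodule.restrictScalars_span _ _ (show Function.Surjective (algebraMap (MvPolynomial σ R) A) from
        fun b => ⟨lift b, hlift b⟩), Submodule.span_le]
      intro z hz
      obtain ⟨i, hi, rfl⟩ := Finset.mem_image.mp hz
      exact ⟨F (.inl ⟨i, hi⟩), Submodule.subset_span ⟨_, rfl⟩, funext fun k => hlift _⟩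
    obtain ⟨u, hu, hu'⟩ := hK (show red (a ^ N • w) ∈ K₀ by rw [hred]; exact hN)
    have hdiff : a ^ N • w - u ∈ Submodule.span (MvPolynomial σ R) (Set.range F) := by
      rw [← Finset.univ_sum_single (a ^ N • w - u)]
      refine sum_mem fun k _ => ?_
      have hk : (a ^ N • w - u) k ∈ RingHom.ker π'.toRingHom := by
        have := congrFun hu' k
        show π' ((a ^ N • w) k - u k) = 0
        rw [map_sub]
        exact sub_eq_zero.mpr this.symm
      rw [← hG] at hk
      generalize (a ^ N • w - u) k = p at hk ⊢
      induction hk using Submodule.span_induction with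
      | mem p hp => exact Submodule.subset_span ⟨.inr (⟨p, hp⟩, ⟨k⟩), rfl⟩
      | zero => rw [Pi.single_zero]; exact zero_mem _
      | add p p' _ _ h h' => rw [Pi.single_add]; exact add_mem h h'
      | smul r p _ h => rw [Pi.single_smul]; exact Submodule.smul_mem _ _ h
    simpa using add_mem hdiff hu

end Groth.ValFlatten
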