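import Groth.Agent.RaynaudGruson.Flattening.Steps
import Groth.Agent.ValFlatten.Pres

/-!
# The affine charts of blow-ups centred at a point of the valuation space, as a directed system (helper92)
-/

set_option autoImplicit false

universe u

namespace Groth.ValFlatten

variable {R : Type u} [CommRing R]

/-- An admissible chart around the valuation `V` of the residue field at `p`. -/
structure Pair (a : R) (p : Ideal R) [p.IsPrime] (V : ValuationSubring p.ResidueField) where
  J : Ideal R
  d : R
  fg : J.FG
  le_span : J ≤ Ideal.span {a}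
  mem_radical : a ∈ J.radical
  mem : d ∈ J
  notMem : d ∉ p
  div : ∀ x ∈ J, ∃ y ∈ V, algebraMap R p.ResidueField x = algebraMap R p.ResidueField d * y

namespace Pair

variable {a : R} {p : Ideal R} [p.IsPrime] {V : ValuationSubring p.ResidueField}

instance : Preorder (Pair a p V) where
  le i j := ∃ e, i.d * e = j.d ∧ ∀ x ∈ i.J, x * e ∈ j.J
  le_refl i := ⟨1, mul_one _, fun x hx => by rwa [mul_one]⟩
  le_trans i j k := fun ⟨e, he, h⟩ ⟨e', he', h'⟩ => ⟨e * e', by rw [← he', ← he, mul_assoc],
    fun x hx => by rw [← mul_assoc]; exact h' _ (h x hx)⟩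

/-- The product of two charts. -/
def mul (i j : Pair a p V) : Pair a p V where
  J := i.J * j.J
  d := i.d * j.d
  fg := i.fg.mul j.fg
  le_span := Ideal.mul_le_right.trans j.le_span
  mem_radical := by rw [Ideal.radical_mul]; exact ⟨i.mem_radical, j.mem_radical⟩
  mem := Ideal.mul_mem_mul i.mem j.mem
  notMem h := (Ideal.IsPrime.mem_or_mem ‹_› h).elim i.notMem j.notMem
  div z hz := by
    refine Submodule.mul_induction_on hz (fun x hx y hy => ?_) fun x y hx hy => ?_
    · obtain ⟨u, hu, hux⟩ := i.div x hx
      obtain ⟨v, hv, hvy⟩ := j.div y hy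
      exact ⟨u * v, mul_mem hu hv, by rw [map_mul, map_mul, hux, hvy]; ring⟩
    · obtain ⟨u, hu, hux⟩ := hx
      obtain ⟨v, hv, hvy⟩ := hy
      exact ⟨u + v, add_mem hu hv, by rw [map_add, hux, hvy]; ring⟩

theorem le_mul_left (i j : Pair a p V) : i ≤ i.mul j :=
  ⟨j.d, rfl, fun _ hx => Ideal.mul_mem_mul hx j.mem⟩

theorem le_mul_right (i j : Pair a p V) : j ≤ i.mul j :=
  ⟨i.d, mul_comm _ _, fun x hx => by rw [mul_comm]; exact Ideal.mul_mem_mul i.mem hx⟩

instance : IsDirectedOrder (Pair a p V) := ⟨fun i j => ⟨i.mul j, i.le_mul_left j, i.le_mul_right j⟩⟩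

/-- Images in the residue field lie in the valuation ring; nonzero ones divide a power of `a`. -/
structure Centred (a : R) (p : Ideal R) [p.IsPrime] (V : ValuationSubring p.ResidueField) : Prop where
  notMem : a ∉ p
  algebraMap_mem : ∀ x, algebraMap R p.ResidueField x ∈ V
  cofinal : ∀ x ∈ V, x ≠ 0 → ∃ (n : ℕ) (y : p.ResidueField), y ∈ V ∧ x * y = algebraMap R p.ResidueField a ^ n

/-- The chart on which a given fraction becomes regular. -/
theorem exists_fraction (h : Centred a p V) (x t : R) (ht : t ∉ p)
    (hxt : ∃ y ∈ V, algebraMap R p.ResidueField x = algebraMap R p.ResidueField t * y) :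
    ∃ i : Pair a p V, i.d = a * t ∧ a * x ∈ i.J := by
  obtain ⟨n, y, hy, hty⟩ := h.cofinal _ (h.algebraMap_mem t)
    (fun h0 => ht (by rwa [Ideal.algebraMap_residueField_eq_zero] at h0))
  refine ⟨⟨Ideal.span {a * x, a * t, a ^ (n + 1)}, a * t, ?_, ?_, ?_, ?_, ?_, ?_⟩, rfl,
    Ideal.subset_span (by simp)⟩
  · exact Submodule.fg_span ((Set.finite_singleton _).insert _ |>.insert _)
  · rw [Ideal.span_le]
    rintro z (rfl | rfl | rfl)
    · exact Ideal.mem_span_singleton.mpr ⟨x, rfl⟩
    · exact Ideal.mem_span_singleton.mpr ⟨t, rfl⟩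
    · exact Ideal.mem_span_singleton.mpr ⟨a ^ n, pow_succ' a n⟩
  · exact ⟨n + 1, Ideal.subset_span (by simp)⟩
  · exact Ideal.subset_span (by simp)
  · exact fun hmem => (Ideal.IsPrime.mem_or_mem ‹_› hmem).elim h.notMem ht
  · intro z hz
    induction hz using Submodule.span_induction with
    | mem z hz =>
      rcases hz with rfl | rfl | rfl
      · obtain ⟨u, hu, hux⟩ := hxt
        exact ⟨u, hu, by rw [map_mul, map_mul, hux, mul_assoc]⟩
      · exact ⟨1, one_mem _, (mul_one _).symm⟩
      · exact ⟨y, hy, by rw [map_pow, map_mul, mul_assoc, hty, pow_succ']⟩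
    | zero => exact ⟨0, zero_mem _, by simp⟩
    | add z w _ _ hz hw =>
      obtain ⟨u, hu, hux⟩ := hz
      obtain ⟨v, hv, hvy⟩ := hw
      exact ⟨u + v, add_mem hu hv, by rw [map_add, hux, hvy]; ring⟩
    | smul c z _ hz =>
      obtain ⟨u, hu, hux⟩ := hz
      exact ⟨algebraMap R _ c * u, mul_mem (h.algebraMap_mem c) hu, by
        rw [smul_eq_mul, map_mul, hux]; ring⟩

theorem nonempty (h : Centred a p V) : Nonempty (Pair a p V) :=
  ⟨(exists_fraction h 1 1 p.one_notMem ⟨1, one_mem _, (mul_one _).symm⟩).choose⟩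

/-- The homomorphism out of `R[1/d]`. -/
noncomputable def awayHom (d : R) {C : Type u} [CommRing C] [Algebra R C]
    (hd : IsUnit (algebraMap R C d)) : Localization.Away d →ₐ[R] C :=
  { IsLocalization.Away.lift (S := Localization.Away d) d hd with
    commutes' := fun r => IsLocalization.Away.lift_eq d hd r }

theorem awayHom_comp (d d' : R) {C : Type u} [CommRing C] [Algebra R C] (hd : IsUnit (algebraMap R C d))
    (hd' : IsUnit (algebraMap R C d')) (hdd : IsUnit (algebraMap R (Localization.Away d') d)) :
    (awayHom d' hd').comp (awayHom d hdd) = awayHom d hd := by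
  haveI := IsLocalization.Away.algebraMap_isUnit (S := Localization.Away d) d
  refine AlgHom.coe_ringHom_injective (IsLocalization.ringHom_ext (Submonoid.powers d) (RingHom.ext fun r => ?_))
  simp

/-- The chart `R[J/d]`. -/
noncomputable def chart (i : Pair a p V) : Subalgebra R (Localization.Away i.d) :=
  Algebra.adjoin R ((fun x => IsLocalization.Away.invSelf (S := Localization.Away i.d) i.d *
    algebraMap R _ x) '' (i.J : Set R))

theorem chart_map_le (i : Pair a p V) {C : Type u} [CommRing C] [Algebra R C]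
    (hd : IsUnit (algebraMap R C i.d)) (T : Subalgebra R C)
    (hT : ∀ x ∈ i.J, ∃ y ∈ T, algebraMap R C i.d * y = algebraMap R C x) {c : Localization.Away i.d}
    (hc : c ∈ i.chart) : awayHom i.d hd c ∈ T := by
  suffices h : i.chart ≤ T.comap (awayHom i.d hd) from h hc
  rw [chart, Algebra.adjoin_le_iff]
  rintro _ ⟨x, hx, rfl⟩
  obtain ⟨y, hy, hxy⟩ := hT x hx
  have : awayHom i.d hd (IsLocalization.Away.invSelf (S := Localization.Away i.d) i.d *
      algebraMap R _ x) = y := by
    apply hd.mul_left_cancel
    conv_lhs => rw [← (awayHom i.d hd).commutes i.d, ← map_mul, ← mul_assoc,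
      IsLocalization.Away.mul_invSelf, one_mul, AlgHom.commutes]
    exact hxy.symm
  show awayHom i.d hd _ ∈ T
  rw [this]
  exact hy

theorem isUnit_of_le {i j : Pair a p V} (h : i ≤ j) :
    IsUnit (algebraMap R (Localization.Away j.d) i.d) := by
  obtain ⟨e, he, -⟩ := h
  have h2 : algebraMap R (Localization.Away j.d) i.d * algebraMap R _ e = algebraMap R _ j.d := by
    rw [← map_mul, he]
  exact isUnit_of_mul_isUnit_left
    (h2 ▸ IsLocalization.Away.algebraMap_isUnit (S := Localization.Away j.d) j.d)

/-- Transition maps between charts. -/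
noncomputable def trans {i j : Pair a p V} (h : i ≤ j) : i.chart →ₐ[R] j.chart :=
  ((awayHom i.d (isUnit_of_le h)).comp i.chart.val).codRestrict j.chart fun c =>
    chart_map_le i (isUnit_of_le h) j.chart (fun x hx => by
      obtain ⟨e, he, hJ⟩ := h
      refine ⟨_, Algebra.subset_adjoin ⟨x * e, hJ x hx, rfl⟩, ?_⟩
      calc algebraMap R (Localization.Away j.d) i.d *
            (IsLocalization.Away.invSelf j.d * algebraMap R _ (x * e))
          = algebraMap R (Localization.Away j.d) (i.d * e) * IsLocalization.Away.invSelf j.d *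
              algebraMap R _ x := by simp only [map_mul]; ring
        _ = algebraMap R _ x := by rw [he, IsLocalization.Away.mul_invSelf, one_mul]) c.2

theorem trans_trans {i j k : Pair a p V} (h : i ≤ j) (h' : j ≤ k) :
    (trans h').comp (trans h) = trans (h.trans h') := by
  refine AlgHom.ext fun c => Subtype.ext ?_
  exact AlgHom.congr_fun (awayHom_comp i.d j.d (isUnit_of_le (h.trans h')) (isUnit_of_le h')
    (isUnit_of_le h)) c.1

/-- The composite ring `π⁻¹(V)` inside the local ring at `p`. -/
noncomputable def compositeRing (h : Centred a p V) : Subalgebra R (Localization.AtPrime p) where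
  carrier := {o | IsLocalRing.residue (Localization.AtPrime p) o ∈ V}
  mul_mem' {x y} hx hy := by show IsLocalRing.residue _ (x * y) ∈ V; rw [map_mul]; exact mul_mem hx hy
  add_mem' {x y} hx hy := by show IsLocalRing.residue _ (x + y) ∈ V; rw [map_add]; exact add_mem hx hy
  algebraMap_mem' r := h.algebraMap_mem r

theorem mem_compositeRing (h : Centred a p V) (o : Localization.AtPrime p) :
    o ∈ compositeRing h ↔ IsLocalRing.residue (Localization.AtPrime p) o ∈ V := Iff.rfl

theorem residue_algebraMap (r : R) :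
    IsLocalRing.residue (Localization.AtPrime p) (algebraMap R _ r) = algebraMap R p.ResidueField r := rfl

theorem isUnit_atPrime {r : R} (hr : r ∉ p) : IsUnit (algebraMap R (Localization.AtPrime p) r) :=
  IsLocalization.map_units (Localization.AtPrime p) (⟨r, hr⟩ : p.primeCompl)

/-- The map of a chart to the composite ring. -/
noncomputable def can (h : Centred a p V) (i : Pair a p V) : i.chart →ₐ[R] compositeRing h :=
  ((awayHom i.d (isUnit_atPrime i.notMem)).comp i.chart.val).codRestrict (compositeRing h) fun c =>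
    chart_map_le i (isUnit_atPrime i.notMem) (compositeRing h) (fun x hx => by
      obtain ⟨y, hy, hxy⟩ := i.div x hx
      refine ⟨algebraMap R _ x * ↑(isUnit_atPrime i.notMem).unit⁻¹, ?_, ?_⟩
      · rw [mem_compositeRing]
        have hd0 : algebraMap R p.ResidueField i.d ≠ 0 := fun h0 =>
          i.notMem (by rwa [Ideal.algebraMap_residueField_eq_zero] at h0)
        convert hy using 1
        apply mul_left_cancel₀ hd0
        rw [← hxy, ← residue_algebraMap, ← residue_algebraMap, ← map_mul, ← mul_assoc,
          mul_comm (algebraMap R _ i.d), mul_assoc, IsUnit.mul_val_inv, mul_one]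
      · rw [← mul_assoc, mul_comm (algebraMap R _ i.d), mul_assoc, IsUnit.mul_val_inv, mul_one]) c.2

theorem can_trans (h : Centred a p V) {i j : Pair a p V} (hij : i ≤ j) :
    (can h j).comp (trans hij) = can h i := by
  refine AlgHom.ext fun c => Subtype.ext ?_
  exact AlgHom.congr_fun (awayHom_comp i.d j.d (isUnit_atPrime i.notMem) (isUnit_atPrime j.notMem)
    (isUnit_of_le hij)) c.1

theorem exists_can_eq (h : Centred a p V) (o : compositeRing h) :
    ∃ (i : Pair a p V) (c : i.chart), can h i c = o := by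
  obtain ⟨⟨x, t⟩, hxt⟩ := IsLocalization.surj p.primeCompl (o : Localization.AtPrime p)
  obtain ⟨i, hi, hiJ⟩ := exists_fraction h x t t.2 ⟨_, (mem_compositeRing h _).mp o.2, by
    rw [← residue_algebraMap, ← residue_algebraMap, ← map_mul, mul_comm, hxt]⟩
  refine ⟨i, ⟨_, Algebra.subset_adjoin ⟨a * x, hiJ, rfl⟩⟩, Subtype.ext ?_⟩
  show awayHom i.d (isUnit_atPrime i.notMem)
    (IsLocalization.Away.invSelf i.d * algebraMap R _ (a * x)) = (o : Localization.AtPrime p)
  apply (isUnit_atPrime i.notMem).mul_left_cancel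
  conv_lhs => rw [← (awayHom i.d (isUnit_atPrime (p := p) i.notMem)).commutes i.d, ← map_mul, ← mul_assoc,
    IsLocalization.Away.mul_invSelf, one_mul, AlgHom.commutes]
  rw [hi, map_mul, map_mul, ← hxt]
  ring

theorem exists_trans_eq_zero (h : Centred a p V) (i : Pair a p V) (c : i.chart) (hc : can h i c = 0) :
    ∃ (j : Pair a p V) (hij : i ≤ j), trans hij c = 0 := by
  obtain ⟨r, ⟨s, k, rfl⟩, hrs⟩ := IsLocalization.exists_mk'_eq (Submonoid.powers i.d) (c : Localization.Away i.d)
  have hcs : (c : Localization.Away i.d) * algebraMap R _ (i.d ^ k) = algebraMap R _ r := by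
    rw [← hrs]; exact IsLocalization.mk'_spec _ _ _
  have hr : algebraMap R (Localization.AtPrime p) r = 0 := by
    have h1 := congrArg (awayHom i.d (isUnit_atPrime i.notMem)) hcs
    have h2 : awayHom i.d (isUnit_atPrime i.notMem) (c : Localization.Away i.d) = 0 := congrArg Subtype.val hc
    rw [map_mul, h2, zero_mul, AlgHom.commutes] at h1
    exact h1.symm
  obtain ⟨t, ht⟩ := (IsLocalization.map_eq_zero_iff p.primeCompl _ r).mp hr
  obtain ⟨i₁, hi₁, -⟩ := exists_fraction h 0 t t.2 ⟨0, zero_mem _, by simp⟩
  refine ⟨i.mul i₁, le_mul_left i i₁, Subtype.ext ?_⟩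
  show awayHom i.d (isUnit_of_le (le_mul_left i i₁)) (c : Localization.Away i.d) = 0
  have hu := IsLocalization.Away.algebraMap_isUnit (S := Localization.Away (i.mul i₁).d) (i.mul i₁).d
  have hd : algebraMap R (Localization.Away (i.mul i₁).d) (i.mul i₁).d =
      algebraMap R _ i.d * (algebraMap R _ a * algebraMap R _ (t : R)) := by
    rw [← map_mul, ← map_mul, ← hi₁]; rfl
  rw [hd] at hu
  have ht' : IsUnit (algebraMap R (Localization.Away (i.mul i₁).d) (t : R)) :=
    (IsUnit.mul_iff.mp (IsUnit.mul_iff.mp hu).2).2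
  have h3 := congrArg (awayHom i.d (isUnit_of_le (le_mul_left i i₁))) hcs
  rw [map_mul, AlgHom.commutes, AlgHom.commutes,
    show algebraMap R (Localization.Away (i.mul i₁).d) r = 0 from
      ht'.mul_right_eq_zero.mp (by rw [← map_mul, ht, map_zero])] at h3
  refine (IsUnit.mul_left_eq_zero ?_).mp h3
  rw [map_pow]
  exact (isUnit_of_le (le_mul_left i i₁)).pow k

/-- Finitely many elements come from one stage. -/
theorem exists_lift_finite (h : Centred a p V) {T : Set (compositeRing h)} (hT : T.Finite) :
    ∃ i : Pair a p V, T ⊆ Set.range (can h i) := by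
  induction T, hT using Set.Finite.induction_on with
  | empty => exact ⟨(nonempty h).some, Set.empty_subset _⟩
  | @insert o T _ _ ih =>
    obtain ⟨i, hi⟩ := ih
    obtain ⟨j, c, hc⟩ := exists_can_eq h o
    refine ⟨i.mul j, Set.insert_subset ⟨trans (le_mul_right i j) c, ?_⟩ fun o' ho' => ?_⟩
    · rw [← AlgHom.comp_apply, can_trans, hc]
    · obtain ⟨c', hc'⟩ := hi ho'
      exact ⟨trans (le_mul_left i j) c', by rw [← AlgHom.comp_apply, can_trans, hc']⟩

/-- Finitely many elements vanishing in the limit vanish at one stage. -/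
theorem exists_kill_finite (h : Centred a p V) (i : Pair a p V) {T : Set i.chart} (hT : T.Finite)
    (h0 : ∀ c ∈ T, can h i c = 0) : ∃ (j : Pair a p V) (hij : i ≤ j), ∀ c ∈ T, trans hij c = 0 := by
  induction T, hT using Set.Finite.induction_on with
  | empty => exact ⟨i, le_rfl, by simp⟩
  | @insert c T _ _ ih =>
    obtain ⟨j, hij, hj⟩ := ih fun c' hc' => h0 c' (Set.mem_insert_of_mem _ hc')
    obtain ⟨k, hjk, hk⟩ := exists_trans_eq_zero h j (trans hij c) (by
      rw [← AlgHom.comp_apply, can_trans]; exact h0 c (Set.mem_insert _ _))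
    refine ⟨k, hij.trans hjk, fun c' hc' => ?_⟩
    rw [← trans_trans hij hjk, AlgHom.comp_apply]
    rcases hc' with rfl | hc'
    · exact hk
    · rw [hj c' hc', map_zero]

end Pair

end Groth.ValFlatten
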