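import Groth.Agent.RaynaudGruson.DomainFP
import Groth.Agent.FlatMorOne.FlatLocusColimit
import Groth.Agent.ValFlatten.Milnor
import Groth.Agent.ValFlatten.Pairs

/-!
# The flattening chart at one point of the valuation space, general base (helper92)
-/

set_option autoImplicit false

universe u

open TensorProduct Groth.RaynaudGruson.Flattening

namespace Groth.ValFlatten

open Pair

variable {R : Type u} [CommRing R] {a : R} {p : Ideal R} [p.IsPrime] {V : ValuationSubring p.ResidueField}
  {σ κ : Type u} {m : ℕ}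

theorem mapRel_sumElim {C C' ι : Type u} [CommRing C] [CommRing C'] [Algebra C C']
    (F : κ → Fin m → MvPolynomial σ C) (w : ι → Fin m → MvPolynomial σ C) :
    mapRel (Sum.elim F w) C' = Sum.elim (mapRel F C') (mapRel w C') := by
  funext i; cases i <;> rfl

theorem mapVec_smul_base {C C' : Type u} [CommRing C] [CommRing C'] [Algebra R C] [Algebra R C']
    (φ : C →ₐ[R] C') (r : R) (v : Fin m → MvPolynomial σ C) :
    mapVec (φ : C →+* C') (r • v) = r • mapVec (φ : C →+* C') v := by
  funext k
  simp [mapVec, MvPolynomial.smul_eq_C_mul, IsScalarTower.algebraMap_apply R C (MvPolynomial σ C),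
    IsScalarTower.algebraMap_apply R C' (MvPolynomial σ C'), Algebra.smul_def]

instance finitePresentation_pres {C : Type u} [CommRing C] [Finite σ] [Finite κ]
    (F : κ → Fin m → MvPolynomial σ C) : Module.FinitePresentation (MvPolynomial σ C) (Pres F) :=
  Module.finitePresentation_of_surjective _ (Submodule.mkQ_surjective _)
    (by rw [Submodule.ker_mkQ]; exact Submodule.fg_span (Set.finite_range F))

section Abstract

variable {A O N M : Type u} [CommRing A] [CommRing O] [Algebra A O] [AddCommGroup N] [Module A N]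
  [AddCommGroup M] [Module A M]

/-- A surjection with kernel killed by units of `O` becomes bijective over `O`. -/
theorem bijective_baseChange_of_unit_killed (g : N →ₗ[A] M) (hg : Function.Surjective g)
    (hker : ∀ z, g z = 0 → ∃ b : A, IsUnit (algebraMap A O b) ∧ b • z = 0) :
    Function.Bijective (g.baseChange O) := by
  refine ⟨(injective_iff_map_eq_zero _).mpr fun z hz => ?_, LinearMap.lTensor_surjective O hg⟩
  obtain ⟨w, rfl⟩ := (lTensor_exact O (LinearMap.exact_subtype_ker_map g) hg z).mp hz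
  clear hz
  induction w with
  | zero => rw [map_zero]
  | add x y hx hy => rw [map_add, hx, hy, add_zero]
  | tmul o z =>
    obtain ⟨b, hb, hbz⟩ := hker z.1 z.2
    obtain ⟨u, hu⟩ := hb
    have h1 : o = b • ((↑u⁻¹ : O) * o) := by
      rw [Algebra.smul_def, ← hu, Units.mul_inv_cancel_left]
    rw [LinearMap.lTensor_tmul, Submodule.subtype_apply, h1, TensorProduct.smul_tmul, hbz,
      TensorProduct.tmul_zero]

/-- Flatness passes to the target of such a surjection. -/
theorem flat_tensor_of_surjective (g : N →ₗ[A] M) (hg : Function.Surjective g)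
    (hker : ∀ z, g z = 0 → ∃ b : A, IsUnit (algebraMap A O b) ∧ b • z = 0)
    [Module.Flat O (O ⊗[A] N)] : Module.Flat O (O ⊗[A] M) :=
  Module.Flat.of_linearEquiv
    (LinearEquiv.ofBijective _ (bijective_baseChange_of_unit_killed g hg hker)).symm

/-- A module without torsion for the submonoid embeds in its localisation. -/
theorem injective_tmul_one (S : Submonoid A) [IsLocalization S O]
    (hS : ∀ b ∈ S, ∀ x : M, b • x = 0 → x = 0) :
    Function.Injective (fun m : M => (1 : O) ⊗ₜ[A] m) := by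
  haveI : IsLocalizedModule S (TensorProduct.mk A O M 1) :=
    (isLocalizedModule_iff_isBaseChange S O _).mpr (TensorProduct.isBaseChange A M O)
  intro x y hxy
  rw [← sub_eq_zero]
  have h0 : TensorProduct.mk A O M 1 (x - y) = 0 := by
    rw [map_sub, sub_eq_zero]; exact hxy
  obtain ⟨⟨b, hb⟩, hbx⟩ := (IsLocalizedModule.eq_zero_iff S _).mp h0
  exact hS b hb _ hbx

/-- If the image is flat and `P` kills the kernel then the kernel meets `P N` trivially. -/
theorem eq_zero_of_mem_smul_top (g : N →ₗ[A] M) (hg : Function.Surjective g) [Module.Flat A M] (P : Ideal A)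
    (hP : ∀ q ∈ P, ∀ z, g z = 0 → q • z = 0) {z : N} (hz0 : g z = 0)
    (hz : z ∈ P • (⊤ : Submodule A N)) : z = 0 := by
  classical
  rw [show (⊤ : Submodule A N) = Submodule.span A (Set.range (id : N → N)) by simp,
    Submodule.mem_ideal_smul_span_iff_exists_sum] at hz
  obtain ⟨c, hc, hsum⟩ := hz
  have hrel : ∑ i : c.support, c i • g i = 0 := by
    rw [Finset.sum_coe_sort c.support (fun n => c n • g n)]
    simp_rw [← map_smul, ← map_sum]
    rw [show ∑ n ∈ c.support, c n • n = z from hsum, hz0]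
  obtain ⟨k, β, y, hy, hβ⟩ := Module.Flat.isTrivialRelation_of_sum_smul_eq_zero hrel
  choose y' hy' using fun j => hg (y j)
  have hsplit : ∀ i : c.support, c i • (i : N) = c i • ∑ j, β i j • y' j := by
    intro i
    have h2 := hP _ (hc i) ((i : N) - ∑ j, β i j • y' j) (by
      rw [map_sub, map_sum, sub_eq_zero]
      refine (hy i).trans (Finset.sum_congr rfl fun j _ => ?_)
      rw [map_smul, hy' j])
    rwa [smul_sub, sub_eq_zero] at h2
  calc z = ∑ i : c.support, c i • (i : N) := by
        rw [Finset.sum_coe_sort c.support (fun n => c n • n)]; exact hsum.symm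
    _ = ∑ j, (∑ i : c.support, c i * β i j) • y' j := by
        simp_rw [hsplit, Finset.smul_sum, smul_smul, Finset.sum_smul]
        exact Finset.sum_comm
    _ = 0 := Finset.sum_eq_zero fun j _ => by rw [hβ j, zero_smul]

/-- Elements of `P N` are divisible by elements dividing everything in `P`. -/
theorem exists_smul_eq_of_mem_smul_top {N' : Type u} [AddCommGroup N'] [Module A N'] (ρ : N →ₗ[A] N')
    (P : Ideal A) (hP : ∀ q ∈ P, ∀ y : N', q • y = 0) (b : A) (hb : ∀ q ∈ P, ∃ q' ∈ P, b * q' = q)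
    {w : N} (hw : w ∈ P • (⊤ : Submodule A N)) : ∃ u, ρ u = 0 ∧ b • u = w := by
  refine Submodule.smul_induction_on hw (fun q hq n _ => ?_) fun x y ⟨u, hu, hux⟩ ⟨u', hu', huy⟩ =>
    ⟨u + u', by rw [map_add, hu, hu', add_zero], by rw [smul_add, hux, huy]⟩
  obtain ⟨q', hq', rfl⟩ := hb q hq
  exact ⟨q' • n, by rw [map_smul, hP q' hq'], (mul_smul b q' n).symm⟩

end Abstract

set_option maxHeartbeats 2000000 in
/-- Over a composite ring the strict transform is flat and cut out by finitely many torsion relations. -/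
theorem exists_flat_relations_composite {A O K : Type u} [CommRing A] [CommRing O] [Field K] [Algebra A O]
    [Finite σ] [Finite κ] (res : O →+* K) (hres : Function.Surjective res)
    (hunit : ∀ o : O, res o ≠ 0 → IsUnit o) (V : ValuationSubring K) (hinj : Function.Injective (algebraMap A O))
    (hA : ∀ o : O, (∃ q, algebraMap A O q = o) ↔ res o ∈ V) [Algebra A V]
    (hπO : ∀ q : A, (algebraMap A V q : K) = res (algebraMap A O q)) (α : A)
    (hcof : ∀ b : A, res (algebraMap A O b) ≠ 0 → ∃ (n : ℕ) (e : A), e * b = α ^ n)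
    (F : κ → Fin m → MvPolynomial σ A) [Module.Flat O (Pres (mapRel F O))] :
    ∃ (ι : Type u) (_ : Finite ι) (v : ι → Fin m → MvPolynomial σ A) (N : ι → ℕ),
      (∀ i, α ^ N i • v i ∈ Submodule.span (MvPolynomial σ A) (Set.range F)) ∧
      Module.Flat A (Pres (Sum.elim F v)) := by
  classical
  have hπ : Function.Surjective (algebraMap A V) := fun v => by
    obtain ⟨o, ho⟩ := hres v
    obtain ⟨q, hq⟩ := (hA o).mpr (ho.symm ▸ v.2)
    exact ⟨q, Subtype.ext (by rw [hπO, hq, ho])⟩
  let P : Ideal A := RingHom.ker (algebraMap A V)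
  have hP : ∀ q : A, q ∈ P ↔ res (algebraMap A O q) = 0 := fun q => by
    rw [RingHom.mem_ker, ← hπO]
    exact ⟨fun hq => by rw [hq]; rfl, fun hq => Subtype.ext hq⟩
  have hdivP : ∀ (b : A), res (algebraMap A O b) ≠ 0 → ∀ q ∈ P, ∃ q' ∈ P, b * q' = q := by
    intro b hb q hq
    obtain ⟨u, hu⟩ := hunit _ hb
    have h0 : res ((↑u⁻¹ : O) * algebraMap A O q) = 0 := by rw [map_mul, (hP q).mp hq, mul_zero]
    obtain ⟨q', hq'⟩ := (hA _).mpr (h0.symm ▸ zero_mem V)
    refine ⟨q', (hP _).mpr (by rw [hq', h0]), hinj ?_⟩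
    rw [map_mul, hq', ← hu, Units.mul_inv_cancel_left]
  let Nm := Pres F
  let T : Submodule (MvPolynomial σ A) Nm :=
    { carrier := {z | ∃ b : A, res (algebraMap A O b) ≠ 0 ∧ b • z = 0}
      zero_mem' := ⟨1, by simp, smul_zero _⟩
      add_mem' := fun {x y} ⟨b, hb, hbx⟩ ⟨c, hc, hcy⟩ => ⟨b * c, by
          rw [map_mul, map_mul]; exact mul_ne_zero hb hc, by
          rw [smul_add, mul_smul, mul_smul, hcy, smul_zero, smul_comm, hbx, smul_zero, add_zero]⟩
      smul_mem' := fun r x ⟨b, hb, hbx⟩ => ⟨b, hb, by rw [smul_comm, hbx, smul_zero]⟩ }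
  have hPT : ∀ q ∈ P, ∀ z ∈ T, q • z = 0 := by
    rintro q hq z ⟨b, hb, hbz⟩
    obtain ⟨q', -, rfl⟩ := hdivP b hb q hq
    rw [mul_comm, mul_smul, hbz, smul_zero]
  let M' := Nm ⧸ T
  -- flatness of the quotient
  let S : Submonoid A :=
    { carrier := {b | res (algebraMap A O b) ≠ 0}
      one_mem' := by simp
      mul_mem' := fun {b c} hb hc => by
        show res (algebraMap A O (b * c)) ≠ 0
        rw [map_mul, map_mul]; exact mul_ne_zero hb hc }
  haveI : IsLocalization S O :=
    { map_units := fun b => hunit _ b.2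
      surj := fun o => by
        rcases V.mem_or_inv_mem (res o) with ho | ho
        · obtain ⟨q, hq⟩ := (hA o).mpr ho
          exact ⟨(q, 1), by simp [hq]⟩
        · by_cases h0 : res o = 0
          · obtain ⟨q, hq⟩ := (hA o).mpr (h0.symm ▸ zero_mem V)
            exact ⟨(q, 1), by simp [hq]⟩
          obtain ⟨u, rfl⟩ := hunit o h0
          have hu' : res (↑u⁻¹ : O) = (res (u : O))⁻¹ :=
            eq_inv_of_mul_eq_one_left (by rw [← map_mul, Units.inv_mul, map_one])
          obtain ⟨q, hq⟩ := (hA ↑u⁻¹).mpr (hu'.symm ▸ ho)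
          refine ⟨(1, ⟨q, ?_⟩), by simp [hq]⟩
          show res (algebraMap A O q) ≠ 0
          rw [hq, hu']; exact inv_ne_zero h0
      exists_of_eq := fun {x y} hxy => ⟨1, by rw [hinj hxy]⟩ }
  let g : Nm →ₗ[A] M' := T.mkQ.restrictScalars A
  have hgT : ∀ z, g z = 0 ↔ z ∈ T := fun z => Submodule.Quotient.mk_eq_zero T
  haveI : Module.Flat O (O ⊗[A] Nm) :=
    Module.Flat.of_linearEquiv (isBaseChange_presMap O F).equiv
  haveI : Module.Flat O (O ⊗[A] M') := flat_tensor_of_surjective g T.mkQ_surjective fun z hz => by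
    obtain ⟨b, hb, hbz⟩ := (hgT z).mp hz
    exact ⟨b, hunit _ hb, hbz⟩
  haveI hM' : Module.Flat A M' := by
    refine flat_of_milnor (A := A) (O := O) (M := M') res hres V hinj hA
      (injective_tmul_one S fun b hb x hbx => ?_)
    obtain ⟨z, rfl⟩ := T.mkQ_surjective x
    obtain ⟨c, hc, hcz⟩ : b • z ∈ T := (hgT _).mp (by rw [map_smul]; exact hbx)
    refine (hgT z).mpr ⟨c * b, ?_, by rw [mul_smul]; exact hcz⟩
    show res (algebraMap A O (c * b)) ≠ 0
    rw [map_mul, map_mul]; exact mul_ne_zero hc hb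
  -- torsion meets `P · N` trivially
  have hmeet : ∀ z ∈ T, z ∈ P • (⊤ : Submodule A Nm) → z = 0 := fun z hzT hz =>
    eq_zero_of_mem_smul_top g T.mkQ_surjective P (fun q hq z hz => hPT q hq z ((hgT z).mp hz))
      ((hgT z).mpr hzT) hz
  -- modulo `P`
  let ρ := presMap V F
  let Nb := Pres (mapRel F V)
  have hρsurj : Function.Surjective ρ := fun y => by
    obtain ⟨w, rfl⟩ := Submodule.Quotient.mk_surjective _ y
    choose w' hw' using fun k => MvPolynomial.map_surjective _ hπ (w k)
    exact ⟨Submodule.Quotient.mk w', by rw [presMap_mk]; exact congrArg _ (funext hw')⟩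
  let Tb : Submodule (MvPolynomial σ V) Nb :=
    { carrier := ρ '' (T : Set Nm)
      zero_mem' := ⟨0, T.zero_mem, map_zero _⟩
      add_mem' := by rintro _ _ ⟨x, hx, rfl⟩ ⟨y, hy, rfl⟩; exact ⟨x + y, T.add_mem hx hy, map_add _ _ _⟩
      smul_mem' := by
        rintro r _ ⟨x, hx, rfl⟩
        obtain ⟨r, rfl⟩ := MvPolynomial.map_surjective _ hπ r
        exact ⟨r • x, T.smul_mem r hx, presMap_smul _ _ _⟩ }
  haveI : Module.Flat V (Nb ⧸ Tb) := by
    rw [Module.Flat.flat_iff_torsion_eq_bot_of_isBezout, eq_bot_iff]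
    rintro q ⟨⟨v, hv⟩, hvq⟩
    obtain ⟨y, rfl⟩ := Tb.mkQ_surjective q
    obtain ⟨y, rfl⟩ := hρsurj y
    rw [Submonoid.mk_smul, Submodule.mkQ_apply, ← Submodule.Quotient.mk_smul, Submodule.Quotient.mk_eq_zero] at hvq
    rw [Submodule.mem_bot, Submodule.mkQ_apply, Submodule.Quotient.mk_eq_zero]
    obtain ⟨b, rfl⟩ := hπ v
    have hb : res (algebraMap A O b) ≠ 0 := fun h0 => nonZeroDivisors.ne_zero hv (Subtype.ext ((hπO b).trans h0))
    obtain ⟨τ, hτT, hτ⟩ := hvq
    have hker : b • y - τ ∈ P • (⊤ : Submodule A Nm) := by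
      refine mem_smul_top_of_presMap_eq_zero _ hπ ?_
      show ρ _ = 0
      rw [map_sub, map_smul, hτ, sub_eq_zero]
      exact (algebraMap_smul V b (ρ y)).symm
    obtain ⟨u, hu, hub⟩ := exists_smul_eq_of_mem_smul_top ρ P (fun q hq y => by
      rw [← algebraMap_smul V q y, RingHom.mem_ker.mp hq, zero_smul]) b (hdivP b hb) hker
    refine ⟨y - u, ?_, by rw [map_sub, hu, sub_zero]⟩
    obtain ⟨c, hc, hcτ⟩ := hτT
    refine ⟨c * b, ?_, ?_⟩
    · show res (algebraMap A O (c * b)) ≠ 0
      rw [map_mul, map_mul]; exact mul_ne_zero hc hb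
    · rw [mul_smul, smul_sub, hub, sub_sub_cancel]; exact hcτ
  haveI : Module.Finite (MvPolynomial σ V) (Nb ⧸ Tb) := Module.Finite.of_surjective Tb.mkQ Tb.mkQ_surjective
  haveI : Module.FinitePresentation (MvPolynomial σ V) (Nb ⧸ Tb) :=
    RaynaudGruson.DomainFP.finitePresentation_of_flat V (MvPolynomial σ V) (Nb ⧸ Tb)
  obtain ⟨t, ht⟩ : Tb.FG := by
    have := Module.FinitePresentation.fg_ker Tb.mkQ Tb.mkQ_surjective
    rwa [Submodule.ker_mkQ] at this
  have htmem : ∀ i : t, ∃ z ∈ T, ρ z = i := fun i => (ht ▸ Submodule.subset_span i.2 : (i : Nb) ∈ Tb)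
  choose τ hτT hτ using htmem
  choose v hv using fun i => Submodule.Quotient.mk_surjective _ (τ i)
  have hN : ∀ i : t, ∃ n : ℕ, α ^ n • τ i = 0 := by
    intro i
    obtain ⟨b, hb, hbz⟩ := hτT i
    obtain ⟨n, e, he⟩ := hcof b hb
    refine ⟨n, ?_⟩
    rw [← he, mul_smul, hbz, smul_zero]
  choose Nn hNn using hN
  refine ⟨t, inferInstance, v, Nn, fun i => ?_, ?_⟩
  · refine (Submodule.Quotient.mk_eq_zero _).mp ?_
    rw [Submodule.Quotient.mk_smul, hv]
    exact hNn i
  have hT : T = Submodule.span (MvPolynomial σ A) (Set.range τ) := by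
    refine le_antisymm (fun z hz => ?_) (Submodule.span_le.mpr (Set.range_subset_iff.mpr hτT))
    have key : ∀ y ∈ Tb, ∃ z₀ ∈ Submodule.span (MvPolynomial σ A) (Set.range τ), ρ z₀ = y := by
      intro y hy
      rw [← ht] at hy
      induction hy using Submodule.span_induction with
      | mem y hy => exact ⟨τ ⟨y, hy⟩, Submodule.subset_span ⟨_, rfl⟩, hτ _⟩
      | zero => exact ⟨0, zero_mem _, map_zero _⟩
      | add y y' _ _ hy hy' =>
        obtain ⟨z, hz, rfl⟩ := hy
        obtain ⟨z', hz', rfl⟩ := hy'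
        exact ⟨z + z', add_mem hz hz', map_add _ _ _⟩
      | smul r y _ hy =>
        obtain ⟨z, hz, rfl⟩ := hy
        obtain ⟨r, rfl⟩ := MvPolynomial.map_surjective _ hπ r
        exact ⟨r • z, Submodule.smul_mem _ _ hz, presMap_smul _ _ _⟩
    obtain ⟨z₀, hz₀, hz₀'⟩ := key _ ⟨z, hz, rfl⟩
    have hz₀T : z₀ ∈ T := Submodule.span_le.mpr (Set.range_subset_iff.mpr hτT) hz₀
    have := hmeet _ (T.sub_mem hz hz₀T) (mem_smul_top_of_presMap_eq_zero _ hπ (by
      show ρ _ = 0
      rw [map_sub, hz₀', sub_self]))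
    rw [sub_eq_zero] at this
    exact this ▸ hz₀
  let W := Submodule.span (MvPolynomial σ A) (Set.range F)
  have hcomap : T.comap W.mkQ =
      Submodule.span (MvPolynomial σ A) (Set.range (Sum.elim F v)) := by
    rw [hT, Set.Sum.elim_range, Submodule.span_union, show Set.range τ = W.mkQ '' Set.range v by
      rw [← Set.range_comp]; exact congrArg Set.range (funext fun i => (hv i).symm),
      ← Submodule.map_span, Submodule.comap_map_eq, Submodule.ker_mkQ, sup_comm]
  let q := T.mkQ ∘ₗ W.mkQ
  have hq : Function.Surjective q := T.mkQ_surjective.comp W.mkQ_surjective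
  have e : Pres (Sum.elim F v) ≃ₗ[MvPolynomial σ A] M' :=
    (Submodule.quotEquivOfEq _ _ (by rw [LinearMap.ker_comp, Submodule.ker_mkQ, hcomap])).trans
      (LinearMap.quotKerEquivOfSurjective q hq)
  exact Module.Flat.of_linearEquiv (e.restrictScalars A)

set_option synthInstance.maxHeartbeats 200000 in
set_option maxHeartbeats 2000000 in
/-- Over the composite ring the strict transform is flat and cut out by finitely many torsion relations. -/
theorem exists_flat_relations [Finite σ] [Finite κ] (h : Centred a p V) (F : κ → Fin m → MvPolynomial σ R)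
    (hH : ∀ (C : Type u) [CommRing C] [Algebra R C], IsUnit (algebraMap R C a) →
      Module.Flat C (Pres (mapRel F C))) :
    ∃ (ι : Type u) (_ : Finite ι) (v : ι → Fin m → MvPolynomial σ (compositeRing h)) (N : ι → ℕ),
      (∀ i, a ^ N i • v i ∈ Submodule.span (MvPolynomial σ (compositeRing h))
        (Set.range (mapRel F (compositeRing h)))) ∧
      Module.Flat (compositeRing h) (Pres (Sum.elim (mapRel F (compositeRing h)) v)) := by
  let res : Localization.AtPrime p →+* p.ResidueField := IsLocalRing.residue (Localization.AtPrime p)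
  have hunit : ∀ o, res o ≠ 0 → IsUnit o := fun o ho => by
    by_contra hn
    exact ho ((IsLocalRing.residue_eq_zero_iff o).mpr ((IsLocalRing.mem_maximalIdeal o).mpr hn))
  letI : Algebra (compositeRing h) V :=
    ((res.comp (compositeRing h).val.toRingHom).codRestrict V.toSubring fun o => o.2).toAlgebra
  haveI : Module.Flat (Localization.AtPrime p)
      (Pres (mapRel (mapRel F (compositeRing h)) (Localization.AtPrime p))) := by
    rw [mapRel_mapRel]
    exact hH _ (isUnit_atPrime h.notMem)
  have hcof : ∀ b : compositeRing h, res (algebraMap (compositeRing h) (Localization.AtPrime p) b) ≠ 0 →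
      ∃ (n : ℕ) (e : compositeRing h), e * b = algebraMap R (compositeRing h) a ^ n := by
    intro b hb
    obtain ⟨n, y, hy, hby⟩ := h.cofinal _ b.2 hb
    obtain ⟨u, hu⟩ := hunit _ hb
    have he : res ((↑u⁻¹ : Localization.AtPrime p) * algebraMap R _ a ^ n) = y := by
      apply mul_left_cancel₀ hb
      refine Eq.trans ?_ hby.symm
      rw [← map_mul, ← hu, Units.mul_inv_cancel_left, map_pow]
      rfl
    refine ⟨n, ⟨↑u⁻¹ * algebraMap R _ a ^ n, by rw [mem_compositeRing]; exact he.symm ▸ hy⟩,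
      Subtype.ext ?_⟩
    show (↑u⁻¹ * algebraMap R _ a ^ n) * (b : Localization.AtPrime p) =
      (↑(algebraMap R (compositeRing h) a ^ n) : Localization.AtPrime p)
    rw [show (b : Localization.AtPrime p) = ↑u from hu.symm, mul_comm, Units.mul_inv_cancel_left]
    simp
  obtain ⟨ι, hι, v, N, hv, hflat⟩ := exists_flat_relations_composite res IsLocalRing.residue_surjective
    hunit V Subtype.val_injective
    (fun o => ⟨fun ⟨q, hq⟩ => hq ▸ q.2, fun ho => ⟨⟨o, (mem_compositeRing h o).mpr ho⟩, rfl⟩⟩)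
    (fun q => rfl) (algebraMap R (compositeRing h) a) hcof (mapRel F (compositeRing h))
  refine ⟨ι, hι, v, N, fun i => ?_, hflat⟩
  have := hv i
  rwa [← map_pow, algebraMap_smul] at this

set_option synthInstance.maxHeartbeats 200000 in
set_option maxHeartbeats 2000000 in
/-- **The chart at a point**: on every extension making the chart principal the strict transform is flat. -/
theorem exists_chart [Finite σ] [Finite κ] (h : Centred a p V) (F : κ → Fin m → MvPolynomial σ R)
    (hH : ∀ (C : Type u) [CommRing C] [Algebra R C], IsUnit (algebraMap R C a) →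
      Module.Flat C (Pres (mapRel F C))) :
    ∃ i : Pair a p V, ∀ (R' : Type u) [CommRing R'] [Algebra R R'],
      algebraMap R R' i.d ∈ nonZeroDivisors R' →
      i.J.map (algebraMap R R') = Ideal.span {algebraMap R R' i.d} →
      Module.Flat R' (Pres (mapRel F R') ⧸ tors (Pres (mapRel F R')) (algebraMap R R' i.d)) := by
  classical
  obtain ⟨ι, hι, v, N, hv, hflat⟩ := exists_flat_relations h F hH
  let A := compositeRing h
  haveI := Fintype.ofFinite κ
  have hcoef : ∀ i, ∃ c : κ → MvPolynomial σ A, ∑ k, c k • mapRel F A k = a ^ N i • v i := fun i =>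
    (Submodule.mem_span_range_iff_exists_fun _).mp (hv i)
  haveI := Fintype.ofFinite ι
  choose c hc using hcoef
  -- lift the data to one chart
  let Cf : Set A := (⋃ i, ⋃ k, (↑(v i k).coeffs : Set A)) ∪ ⋃ i, ⋃ k, (↑(c i k).coeffs : Set A)
  obtain ⟨i₀, hi₀⟩ := exists_lift_finite h (T := Cf)
    ((Set.finite_iUnion fun i => Set.finite_iUnion fun k => (v i k).coeffs.finite_toSet).union
      (Set.finite_iUnion fun i => Set.finite_iUnion fun k => (c i k).coeffs.finite_toSet))
  have hlift : ∀ q : MvPolynomial σ A, (↑q.coeffs : Set A) ⊆ Cf →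
      ∃ q' : MvPolynomial σ i₀.chart, MvPolynomial.map (can h i₀ : i₀.chart →+* A) q' = q := fun q hq =>
    MvPolynomial.mem_range_map_iff_coeffs_subset.mpr (hq.trans hi₀)
  choose w₀ hw₀ using fun i k => hlift (v i k) fun x hx =>
    Or.inl (Set.mem_iUnion_of_mem i (Set.mem_iUnion_of_mem k hx))
  choose c₀ hc₀ using fun i k => hlift (c i k) fun x hx =>
    Or.inr (Set.mem_iUnion_of_mem i (Set.mem_iUnion_of_mem k hx))
  let D : ι → Fin m → MvPolynomial σ i₀.chart := fun i =>
    a ^ N i • w₀ i - ∑ k, c₀ i k • mapRel F i₀.chart k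
  have hmapF : ∀ (C C' : Type u) [CommRing C] [CommRing C'] [Algebra R C] [Algebra R C'] (φ : C →ₐ[R] C') (k : κ),
      mapVec (φ : C →+* C') (mapRel F C k) = mapRel F C' k := fun C C' _ _ _ _ φ k => by
    rw [mapRel, mapVec_mapVec, φ.comp_algebraMap]
  have hmapD : ∀ {C : Type u} [CommRing C] [Algebra R C] (φ : i₀.chart →ₐ[R] C) (i : ι),
      mapVec (φ : i₀.chart →+* C) (D i) = a ^ N i • mapVec (φ : i₀.chart →+* C) (w₀ i) -
        ∑ k, MvPolynomial.map (φ : i₀.chart →+* C) (c₀ i k) • mapRel F C k := by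
    intro C _ _ φ i
    rw [← mapVec_smul_base φ]
    simp only [← hmapF i₀.chart C φ, ← mapVec_smul]
    funext j
    simp [D, mapVec, Finset.sum_apply]
  have hD0 : ∀ i, mapVec (can h i₀ : i₀.chart →+* A) (D i) = 0 := by
    intro i
    rw [hmapD, show mapVec (can h i₀ : i₀.chart →+* A) (w₀ i) = v i from funext (hw₀ i), ← hc i]
    simp only [hc₀]
    exact sub_self _
  obtain ⟨i₁, h01, hi₁⟩ := exists_kill_finite h i₀
    (T := ⋃ i, ⋃ k, (↑(D i k).coeffs : Set i₀.chart))
    (Set.finite_iUnion fun i => Set.finite_iUnion fun k => (D i k).coeffs.finite_toSet) (by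
      intro x hx
      obtain ⟨i, hx⟩ := Set.mem_iUnion.mp hx
      obtain ⟨k, hx⟩ := Set.mem_iUnion.mp hx
      obtain ⟨s, -, rfl⟩ := MvPolynomial.mem_coeffs_iff.mp hx
      have := congrArg (MvPolynomial.coeff s) (congrFun (hD0 i) k)
      rw [mapVec_apply, MvPolynomial.coeff_map] at this
      exact this)
  let w : ι → Fin m → MvPolynomial σ i₁.chart := fun i => mapVec (Pair.trans h01 : i₀.chart →+* i₁.chart) (w₀ i)
  have hw : ∀ i, a ^ N i • w i ∈ Submodule.span (MvPolynomial σ i₁.chart) (Set.range (mapRel F i₁.chart)) := by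
    intro i
    have h0 : mapVec (Pair.trans h01 : i₀.chart →+* i₁.chart) (D i) = 0 := by
      funext k
      refine MvPolynomial.ext _ _ fun s => ?_
      rw [mapVec_apply, MvPolynomial.coeff_map]
      show _ = MvPolynomial.coeff s (0 : MvPolynomial σ i₁.chart)
      rw [MvPolynomial.coeff_zero]
      by_cases hs : MvPolynomial.coeff s (D i k) = 0
      · rw [hs, map_zero]
      · exact hi₁ _ (Set.mem_iUnion_of_mem i (Set.mem_iUnion_of_mem k
          (MvPolynomial.coeff_mem_coeffs s hs)))
    rw [hmapD] at h0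
    rw [show a ^ N i • w i = _ from sub_eq_zero.mp h0]
    exact sum_mem fun k _ => Submodule.smul_mem _ _ (Submodule.subset_span ⟨k, rfl⟩)
  -- descend flatness
  letI : Algebra i₁.chart A := (can h i₁).toRingHom.toAlgebra
  haveI : IsScalarTower R i₁.chart A := IsScalarTower.of_algebraMap_eq fun r => ((can h i₁).commutes r).symm
  let G₁ := Sum.elim (mapRel F i₁.chart) w
  have hmapG : mapRel G₁ A = Sum.elim (mapRel F A) v := by
    rw [mapRel_sumElim, mapRel_mapRel]
    congr 1
    funext i
    show mapVec (can h i₁ : i₁.chart →+* A) (w i) = v i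
    rw [mapVec_mapVec]
    rw [show ((can h i₁ : i₁.chart →+* A)).comp (Pair.trans h01 : i₀.chart →+* i₁.chart) =
      (can h i₀ : i₀.chart →+* A) from RingHom.ext fun x => AlgHom.congr_fun (can_trans h h01) x]
    exact funext (hw₀ i)
  let ι' := {k : Pair a p V // i₁ ≤ k}
  haveI : Nonempty ι' := ⟨⟨i₁, le_rfl⟩⟩
  haveI : IsDirectedOrder ι' := ⟨fun x y => ⟨⟨x.1.mul y.1, x.2.trans (le_mul_left x.1 y.1)⟩,
    le_mul_left x.1 y.1, le_mul_right x.1 y.1⟩⟩
  letI : ∀ k : ι', Algebra i₁.chart k.1.chart := fun k => (Pair.trans k.2).toRingHom.toAlgebra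
  haveI : Module.Flat A (A ⊗[i₁.chart] Pres G₁) := by
    haveI : Module.Flat A (Pres (mapRel G₁ A)) := hmapG ▸ hflat
    exact Module.Flat.of_linearEquiv (isBaseChange_presMap A G₁).equiv
  obtain ⟨k, hk⟩ := FlatMorOne.exists_flat_stage_of_colimit (A₀ := i₁.chart) (ι := ι')
    (G := fun k => ↥k.1.chart)
    (fun x y hxy => { (Pair.trans hxy).toRingHom with
      commutes' := fun r => AlgHom.congr_fun (trans_trans x.2 hxy) r })
    (A := A) (fun x => { (can h x.1).toRingHom with
      commutes' := fun r => AlgHom.congr_fun (can_trans h x.2) r })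
    (fun x y hxy => AlgHom.ext fun z => AlgHom.congr_fun (can_trans h hxy) z)
    (fun o => by
      obtain ⟨x, z, hz⟩ := exists_can_eq h o
      refine ⟨⟨x.mul i₁, le_mul_right x i₁⟩, Pair.trans (le_mul_left x i₁) z, ?_⟩
      rw [← hz]
      exact AlgHom.congr_fun (can_trans h (le_mul_left x i₁)) z)
    (fun x z hz => by
      obtain ⟨y, hxy, hy⟩ := exists_trans_eq_zero h x.1 z hz
      exact ⟨⟨y, x.2.trans hxy⟩, hxy, hy⟩)
    (B₀ := MvPolynomial σ i₁.chart) (Pres G₁)
  refine ⟨k.1, fun R' _ _ hd hJ => ?_⟩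
  -- the chart maps to `R'`
  let Q := Localization.Away (algebraMap R R' k.1.d)
  have hinj : Function.Injective (algebraMap R' Q) :=
    IsLocalization.injective Q (Submonoid.powers_le.mpr hd)
  have hdQ : IsUnit (algebraMap R Q k.1.d) := by
    rw [IsScalarTower.algebraMap_apply R R' Q]
    exact IsLocalization.Away.algebraMap_isUnit _
  let ψ : k.1.chart →ₐ[R] R' :=
    (AlgEquiv.ofInjective (IsScalarTower.toAlgHom R R' Q) hinj).symm.toAlgHom.comp
      (((awayHom k.1.d hdQ).comp k.1.chart.val).codRestrict (IsScalarTower.toAlgHom R R' Q).range fun c =>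
        chart_map_le k.1 hdQ _ (fun x hx => by
          have hx' : algebraMap R R' x ∈ Ideal.span {algebraMap R R' k.1.d} := hJ ▸ Ideal.mem_map_of_mem _ hx
          obtain ⟨y, hy⟩ := Ideal.mem_span_singleton'.mp hx'
          refine ⟨_, ⟨y, rfl⟩, ?_⟩
          show algebraMap R Q k.1.d * algebraMap R' Q y = algebraMap R Q x
          rw [IsScalarTower.algebraMap_apply R R' Q, IsScalarTower.algebraMap_apply R R' Q, ← map_mul, mul_comm, hy]) c.2)
  letI : Algebra k.1.chart R' := ψ.toRingHom.toAlgebra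
  haveI : IsScalarTower R k.1.chart R' := IsScalarTower.of_algebraMap_eq fun r => (ψ.commutes r).symm
  haveI : IsScalarTower R i₁.chart k.1.chart :=
    IsScalarTower.of_algebraMap_eq fun r => ((Pair.trans k.2).commutes r).symm
  haveI : Module.Flat k.1.chart (Pres (mapRel G₁ k.1.chart)) :=
    Module.Flat.of_linearEquiv (isBaseChange_presMap k.1.chart G₁).equiv.symm
  haveI hflat' : Module.Flat R' (Pres (mapRel (mapRel G₁ k.1.chart) R')) :=
    flat_pres_baseChange (mapRel G₁ k.1.chart)
  let w' : ι → Fin m → MvPolynomial σ R' := mapRel (mapRel w k.1.chart) R'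
  have hG : mapRel (mapRel G₁ k.1.chart) R' = Sum.elim (mapRel F R') w' := by
    rw [mapRel_sumElim, mapRel_mapRel, mapRel_sumElim, mapRel_mapRel]
  rw [hG] at hflat'
  have hw' : ∀ i, a ^ N i • w' i ∈ Submodule.span (MvPolynomial σ R') (Set.range (mapRel F R')) := by
    intro i
    let χ : i₁.chart →ₐ[R] R' := ψ.comp (Pair.trans k.2)
    have h1 := mapVec_mem_span (χ : i₁.chart →+* R') _ (hw i)
    rw [mapVec_smul_base χ, show (fun j => mapVec (χ : i₁.chart →+* R') (mapRel F i₁.chart j)) = mapRel F R' from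
      funext fun j => hmapF _ _ χ j] at h1
    have h2 : w' i = mapVec (χ : i₁.chart →+* R') (w i) := mapVec_mapVec _ _ _
    rwa [h2]
  -- the strict transform
  let τ := algebraMap R R' k.1.d
  let W := Submodule.span (MvPolynomial σ R') (Set.range (mapRel F R'))
  let W' := Submodule.span (MvPolynomial σ R') (Set.range (Sum.elim (mapRel F R') w'))
  have hWW : W ≤ W' := Submodule.span_mono (by rintro _ ⟨j, rfl⟩; exact ⟨.inl j, rfl⟩)
  let f : Pres (mapRel F R') →ₗ[R'] Pres (Sum.elim (mapRel F R') w') :=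
    (Submodule.factor hWW).restrictScalars R'
  have hrad : algebraMap R R' a ∈ (Ideal.span {τ}).radical :=
    hJ ▸ mem_radical_map k.1.mem_radical
  have hle : Ideal.span {τ} ≤ Ideal.span {algebraMap R R' a} := by
    rw [← hJ, ← Set.image_singleton, ← Ideal.map_span]
    exact Ideal.map_mono k.1.le_span
  have hrad' : τ ∈ (Ideal.span {algebraMap R R' a}).radical :=
    Ideal.le_radical (hle (Ideal.mem_span_singleton_self τ))
  have hker : LinearMap.ker f ≤ tors (Pres (mapRel F R')) τ := by
    intro x hx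
    obtain ⟨x, rfl⟩ := Submodule.Quotient.mk_surjective _ x
    refine tors_le_of_mem_radical (τ := algebraMap R R' a) (τ' := τ) hrad' ?_
    have hxW : x ∈ W' := (Submodule.Quotient.mk_eq_zero _).mp hx
    clear hx
    induction hxW using Submodule.span_induction with
    | mem x hx =>
      obtain ⟨j | i, rfl⟩ := hx
      · rw [show (Submodule.Quotient.mk (Sum.elim (mapRel F R') w' (.inl j)) : Pres (mapRel F R')) = 0 from
          (Submodule.Quotient.mk_eq_zero _).mpr (Submodule.subset_span ⟨j, rfl⟩)]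
        exact zero_mem _
      · refine ⟨N i, ?_⟩
        rw [← map_pow, algebraMap_smul, ← Submodule.Quotient.mk_smul]
        exact (Submodule.Quotient.mk_eq_zero _).mpr (hw' i)
    | zero => exact zero_mem _
    | add x y _ _ hx hy => rw [Submodule.Quotient.mk_add]; exact add_mem hx hy
    | smul r x _ hx =>
      obtain ⟨n, hn⟩ := hx
      exact ⟨n, by rw [Submodule.Quotient.mk_smul, smul_comm, hn, smul_zero]⟩
  obtain ⟨e⟩ := nonempty_quotTorsEquiv f (fun y => by
    obtain ⟨y, rfl⟩ := Submodule.Quotient.mk_surjective _ y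
    exact ⟨Submodule.Quotient.mk y, rfl⟩) hker
  have hbot : tors (Pres (Sum.elim (mapRel F R') w')) τ = ⊥ := by
    rw [eq_bot_iff]
    rintro x ⟨n, hn⟩
    exact Module.Flat.isSMulRegular_of_nonZeroDivisors (pow_mem hd n) (hn.trans (smul_zero _).symm)
  exact Module.Flat.of_linearEquiv (e.trans (Submodule.quotEquivOfEqBot _ hbot))

end Groth.ValFlatten
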