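import Groth.Agent.ValFlatten.Chart
import Groth.Agent.BlowUpBasics.IdealComap
import Groth.Agent.BlowUpBasics.Global
import Groth.Agent.FlatMorOne.FTIdealExtend
import Groth.Agent.HensPair.BlowUpUnibranch
import Groth.Agent.HTopHyper.BlowUpProper

/-!
# Flattening by a blow-up over an integral base (helper92)
-/

set_option autoImplicit false
set_option backward.isDefEq.respectTransparency false

universe u

open CategoryTheory CategoryTheory.Limits AlgebraicGeometry TopologicalSpace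

namespace Groth.ValFlatten

variable {X Y : Scheme.{u}}

/-- Prescribed ideals on finitely many affine opens all divide one ideal sheaf of finite type. -/
theorem exists_common_ideal [IsIntegral Y] [CompactSpace Y] [QuasiSeparatedSpace Y] {κ : Type u} [Finite κ]
    (V : κ → Y.affineOpens) (hξ : ∀ k, genericPoint Y ∈ (V k).1) (J : ∀ k, Ideal Γ(Y, V k))
    (hfg : ∀ k, (J k).FG) (hne : ∀ k, J k ≠ ⊥) :
    ∃ 𝓘 : Y.IdealSheafData, BlowUp.IsFiniteTypeIdeal 𝓘 ∧ genericPoint Y ∉ 𝓘.support ∧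
      ∀ k, ∃ I : Ideal Γ(Y, V k), 𝓘.ideal (V k) = J k * I := by
  classical
  cases nonempty_fintype κ
  suffices H : ∀ s : Finset κ, ∃ 𝓘 : Y.IdealSheafData, BlowUp.IsFiniteTypeIdeal 𝓘 ∧
      genericPoint Y ∉ 𝓘.support ∧ ∀ k ∈ s, ∃ I : Ideal Γ(Y, V k), 𝓘.ideal (V k) = J k * I by
    obtain ⟨𝓘, h₁, h₂, h₃⟩ := H Finset.univ
    exact ⟨𝓘, h₁, h₂, fun k => h₃ k (Finset.mem_univ k)⟩
  intro s
  induction s using Finset.induction_on with
  | empty =>
    exact ⟨⊤, fun U => by rw [Scheme.IdealSheafData.ideal_top]; exact ⟨{1}, by simp⟩, by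
      rw [Scheme.IdealSheafData.support_top]; exact Set.notMem_empty _, by simp⟩
  | insert k s _ ih =>
    obtain ⟨𝓘, hft, hξ𝓘, hI⟩ := ih
    obtain ⟨K, -, hKfg, hK⟩ := FlatMorOne.exists_ftIdeal_eq (⊤ : Y.IdealSheafData) (V k) (J k) (hfg k)
      (by rw [Scheme.IdealSheafData.ideal_top]; exact le_top)
    have hξK : genericPoint Y ∉ K.support := by
      rw [Scheme.IdealSheafData.mem_support_iff_of_mem (hξ k), hK, Scheme.mem_zeroLocus_iff]
      obtain ⟨a, ha, ha0⟩ := Submodule.exists_mem_ne_zero_of_ne_bot (hne k)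
      push Not
      refine ⟨a, ha, ?_⟩
      have hne' : (Y.basicOpen a : Set Y).Nonempty := by
        rw [Set.nonempty_iff_ne_empty]
        intro h
        exact ha0 ((basicOpen_eq_bot_iff a).mp (Opens.ext h))
      exact ((genericPoint_spec Y).mem_open_set_iff (Y.basicOpen a).isOpen).mpr (by simpa using hne')
    refine ⟨𝓘 * K, fun U => ?_, ?_, fun k' hk' => ?_⟩
    · rw [Scheme.IdealSheafData.ideal_mul, Pi.mul_apply]
      exact Submodule.FG.mul (hft U) (hKfg U)
    · rw [Scheme.IdealSheafData.support_mul]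
      rintro (h | h)
      · exact hξ𝓘 h
      · exact hξK h
    · rw [Scheme.IdealSheafData.ideal_mul, Pi.mul_apply]
      rcases Finset.mem_insert.mp hk' with rfl | hk'
      · exact ⟨𝓘.ideal (V k'), by rw [hK, mul_comm]⟩
      · obtain ⟨I, hI⟩ := hI k' hk'
        exact ⟨I * K.ideal (V k'), by rw [hI, mul_assoc]⟩

set_option maxHeartbeats 1000000 in
/-- **Flattening by a blow-up over an integral base**: for a morphism of finite type to an integral qcqs
scheme there is a blow-up in an ideal of finite type, not containing the generic point in its support, such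
that the closure of the generic fibre in the base change is flat. -/
theorem exists_flat_blowUp [IsIntegral Y] [CompactSpace Y] [QuasiSeparatedSpace Y] (f : X ⟶ Y)
    [LocallyOfFiniteType f] [QuasiCompact f] :
    ∃ (𝓘 : Y.IdealSheafData) (Y' : Scheme.{u}) (_ : IsIntegral Y') (b : Y' ⟶ Y) (X' : Scheme.{u})
      (r : X' ⟶ pullback f b),
      BlowUp.IsBlowUp b 𝓘 ∧ BlowUp.IsFiniteTypeIdeal 𝓘 ∧ genericPoint Y ∉ 𝓘.support ∧ IsProper b ∧
        Surjective b ∧ IsClosedImmersion r ∧ Flat (r ≫ pullback.snd f b) ∧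
        Set.range r = closure (pullback.snd f b ⁻¹' {genericPoint Y'}) := by
  classical
  -- finitely many charts
  obtain ⟨sV, hsV⟩ := isCompact_univ.elim_finite_subcover
    (fun V : {V : Y.affineOpens // genericPoint Y ∈ V.1} => ((V.1 : Y.Opens) : Set Y)) (fun V => V.1.1.isOpen)
    (fun y _ => by
      obtain ⟨V, hV, hyV, -⟩ := exists_isAffineOpen_mem_and_subset (x := y) (U := (⊤ : Y.Opens)) trivial
      exact Set.mem_iUnion.mpr ⟨⟨⟨V, hV⟩,
        (genericPoint_spec Y).mem_open_set_iff V.isOpen |>.mpr ⟨y, trivial, hyV⟩⟩, hyV⟩)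
  have hU : ∀ V : {V : Y.affineOpens // genericPoint Y ∈ V.1}, ∃ s : Finset X.affineOpens,
      (∀ U ∈ s, U.1 ≤ f ⁻¹ᵁ V.1.1) ∧ ∀ x ∈ f ⁻¹ᵁ V.1.1, ∃ U ∈ s, x ∈ U.1 := by
    intro V
    obtain ⟨s, hs⟩ := (f.isCompact_preimage V.1.2.isCompact).elim_finite_subcover
      (fun U : {U : X.affineOpens // U.1 ≤ f ⁻¹ᵁ V.1.1} => ((U.1 : X.Opens) : Set X)) (fun U => U.1.1.isOpen)
      (fun x hx => by
        obtain ⟨U, hU, hxU, hUV⟩ := exists_isAffineOpen_mem_and_subset (x := x) (U := f ⁻¹ᵁ V.1.1) hx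
        exact Set.mem_iUnion.mpr ⟨⟨⟨U, hU⟩, hUV⟩, hxU⟩)
    refine ⟨s.image Subtype.val, fun U hU => ?_, fun x hx => ?_⟩
    · obtain ⟨U, -, rfl⟩ := Finset.mem_image.mp hU
      exact U.2
    · obtain ⟨U, hU, hxU⟩ := Set.mem_iUnion₂.mp (hs hx)
      exact ⟨U.1, Finset.mem_image_of_mem _ hU, hxU⟩
  choose sU hsU hcov using hU
  let κ := Σ V : sV, {U : X.affineOpens // U ∈ sU V.1}
  haveI hne : ∀ k : κ, Nonempty (k.1.1.1 : Y.Opens) := fun k => ⟨⟨_, k.1.1.2⟩⟩
  choose J hJfg hJne hJ using fun k : κ =>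
    exists_chart_ideal f k.1.1.1 (hne k) k.2.1 (hsU _ _ k.2.2)
  obtain ⟨𝓘, hft, hξ, hdiv⟩ := exists_common_ideal (fun k : κ => k.1.1.1) (fun k => k.1.1.2) J hJfg hJne
  obtain ⟨Y', b, hb⟩ := BlowUpBasics.exists_isBlowUp Y 𝓘
  haveI hY' : IsIntegral Y' := HensPair.isIntegral_blowUp hb hξ
  haveI : IsProper b := HTopHyper.isProper_of_isBlowUp hb hft
  obtain ⟨hbξ, hbiso⟩ := HensPair.blowUp_genericPoint hb
  haveI : Surjective b := by
    refine ⟨fun y => ?_⟩
    have hclosed : IsClosed (Set.range b) := b.isClosedMap.isClosed_range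
    exact ((genericPoint_spec Y).specializes (Set.mem_univ y)).mem_closed hclosed ⟨_, hbξ⟩
  haveI : CompactSpace Y' := QuasiCompact.compactSpace_of_compactSpace b
  haveI : QuasiSeparatedSpace Y' := quasiSeparatedSpace_of_quasiSeparated b
  let η := Y'.fromSpecStalk (genericPoint Y')
  haveI : QuasiCompact η := quasiCompact_of_compactSpace η
  let g := pullback.fst (pullback.snd f b) η
  haveI : QuasiCompact g := MorphismProperty.pullback_fst _ _ ‹_›
  refine ⟨𝓘, Y', hY', b, g.image, g.imageι, hb, hft, hξ, inferInstance, inferInstance, inferInstance, ?_, ?_⟩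
  · rw [HasRingHomProperty.iff_exists_appLE (P := @Flat)
      (RingHom.Flat.stableUnderComposition.stableUnderCompositionWithLocalizationAway
        RingHom.Flat.holdsForLocalizationAway).left]
    intro x
    let z := g.imageι x
    let y := pullback.snd f b z
    obtain ⟨V, hV, hyV⟩ := Set.mem_iUnion₂.mp (hsV (Set.mem_univ (b y)))
    have hzx : pullback.fst f b z ∈ f ⁻¹ᵁ V.1.1 := by
      show f (pullback.fst f b z) ∈ V.1.1
      rw [← Scheme.Hom.comp_apply, pullback.condition, Scheme.Hom.comp_apply]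
      exact hyV
    obtain ⟨U, hU, hxU⟩ := hcov V _ hzx
    let k : κ := ⟨⟨V, hV⟩, ⟨U, hU⟩⟩
    obtain ⟨W₀, hyW₀, a, ha, haI⟩ := hb.1 y
    -- shrink into the preimage of the chart
    obtain ⟨s, hsW, hys⟩ := W₀.2.exists_basicOpen_le (V := b ⁻¹ᵁ V.1.1) ⟨y, hyV⟩ hyW₀
    let W : Y'.affineOpens := ⟨Y'.basicOpen s, W₀.2.basicOpen s⟩
    have hξW : genericPoint Y' ∈ W.1 :=
      (genericPoint_spec Y').mem_open_set_iff W.1.isOpen |>.mpr ⟨y, trivial, hys⟩
    haveI : Nonempty W₀.1 := ⟨⟨y, hyW₀⟩⟩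
    let a' : Γ(Y', W) := (Y'.presheaf.map (homOfLE (Y'.basicOpen_le s)).op).hom a
    have ha' : a' ≠ 0 := by
      intro h
      have h0 : a = 0 := by
        refine germ_injective_of_isIntegral Y' (genericPoint Y')
          (Y'.basicOpen_le s hξW) ?_
        rw [map_zero, ← TopCat.Presheaf.germ_res_apply Y'.presheaf (homOfLE (Y'.basicOpen_le s))
          (genericPoint Y') hξW]
        show Y'.presheaf.germ W.1 _ hξW a' = 0
        rw [h, map_zero]
      haveI : Nontrivial Γ(Y', W₀.1) := inferInstance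
      exact nonZeroDivisors.ne_zero ha h0
    obtain ⟨I, hI⟩ := hdiv k
    have hmap : (J k).map (b.appLE k.1.1.1.1 W.1 hsW).hom * I.map (b.appLE k.1.1.1.1 W.1 hsW).hom =
        Ideal.span {a'} := by
      rw [← Ideal.map_mul, ← hI, ← BlowUpBasics.ideal_comap b 𝓘 k.1.1.1 W hsW,
        ← (𝓘.comap b).map_ideal (U := W) (V := W₀) (Y'.basicOpen_le s), haI, Ideal.map_span,
        Set.image_singleton]
      rfl
    haveI := hbiso
    have hflat := hJ k b W hsW hξW a' _ ha' hmap g (pullback.snd _ η) (IsPullback.of_hasPullback _ η)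
    let O : (pullback f b).affineOpens :=
      ⟨pullback.fst f b ⁻¹ᵁ U.1 ⊓ pullback.snd f b ⁻¹ᵁ W.1,
        isAffineOpen_chart f b V.1.2 U.2 W.2 (hsU V U hU) hsW⟩
    refine ⟨W, ⟨g.imageι ⁻¹ᵁ O.1, O.2.preimage g.imageι⟩, ⟨hxU, hys⟩, fun z hz => hz.2, ?_⟩
    have hsurj : Function.Surjective (g.imageι.app O.1).hom := g.ker.subschemeι_app_surjective O
    have hker : RingHom.ker (g.imageι.app O.1).hom = RingHom.ker (g.app O.1).hom := by
      rw [← Scheme.Hom.ker_apply g O, ← g.ker.ker_subschemeι_app O]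
    have e : (g.imageι ≫ pullback.snd f b).appLE W.1 (g.imageι ⁻¹ᵁ O.1) (fun z hz => hz.2) =
        (pullback.snd f b).appLE W.1 O.1 inf_le_right ≫ g.imageι.app O.1 := by
      rw [Scheme.Hom.app_eq_appLE, Scheme.Hom.appLE_comp_appLE]
    show ((g.imageι ≫ pullback.snd f b).appLE W.1 (g.imageι ⁻¹ᵁ O.1) _).hom.Flat
    rw [e, CommRingCat.hom_comp]
    have hfac : (g.imageι.app O.1).hom =
        ((RingHom.quotientKerEquivOfSurjective hsurj).toRingHom.comp
          (Ideal.quotEquivOfEq hker.symm).toRingHom).comp (Ideal.Quotient.mk (RingHom.ker (g.app O.1).hom)) :=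
      RingHom.ext fun t => rfl
    rw [hfac, RingHom.comp_assoc]
    exact RingHom.Flat.comp hflat (RingHom.Flat.of_bijective
      ((RingHom.quotientKerEquivOfSurjective hsurj).bijective.comp (Ideal.quotEquivOfEq hker.symm).bijective))
  · rw [Scheme.IdealSheafData.range_subschemeι, Scheme.Hom.support_ker]
    show closure (Set.range g) = _
    congr 1
    rw [Scheme.Pullback.range_fst, Scheme.range_fromSpecStalk]
    congr 1
    ext z
    refine ⟨fun h => ?_, fun h => by rw [Set.mem_singleton_iff.mp h]; exact specializes_refl _⟩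
    exact (h.antisymm ((genericPoint_spec Y').specializes (Set.mem_univ z))).eq

end Groth.ValFlatten
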