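import Groth.Agent.ValFlatten.Algebra
import Mathlib.AlgebraicGeometry.FunctionField
import Mathlib.AlgebraicGeometry.Morphisms.Flat
import Mathlib.AlgebraicGeometry.IdealSheaf.Subscheme
import Mathlib.AlgebraicGeometry.Morphisms.FiniteType

/-!
# The flattening ideal of a chart, scheme form (helper92)
-/

set_option autoImplicit false
set_option backward.isDefEq.respectTransparency false

universe u

open CategoryTheory CategoryTheory.Limits AlgebraicGeometry

namespace Groth.ValFlatten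

variable {X Y : Scheme.{u}}

/-- Being affine for the intersection of two affine charts of a fibre product. -/
theorem isAffineOpen_chart {Y' : Scheme.{u}} (f : X ⟶ Y) (b : Y' ⟶ Y) {V : Y.Opens} (hV : IsAffineOpen V)
    {U : X.Opens} (hU : IsAffineOpen U) {W : Y'.Opens} (hW : IsAffineOpen W) (eU : U ≤ f ⁻¹ᵁ V)
    (eW : W ≤ b ⁻¹ᵁ V) :
    IsAffineOpen (pullback.fst f b ⁻¹ᵁ U ⊓ pullback.snd f b ⁻¹ᵁ W) := by
  haveI : IsAffine (U : Scheme.{u}) := hU
  haveI : IsAffine (V : Scheme.{u}) := hV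
  haveI : IsAffine (W : Scheme.{u}) := hW
  exact .of_isIso (Scheme.Hom.isPullback_resLE (IsPullback.of_hasPullback f b) eW eU rfl).isoPullback.hom

/-- The pushout square of rings of a chart of a fibre product. -/
theorem isPushout_chart {Y' P : Scheme.{u}} {p : P ⟶ X} {q : P ⟶ Y'} {f : X ⟶ Y} {b : Y' ⟶ Y}
    (H : IsPullback p q f b) {V : Y.Opens} (hV : IsAffineOpen V)
    {U : X.Opens} (hU : IsAffineOpen U) {W : Y'.Opens} (hW : IsAffineOpen W) (eU : U ≤ f ⁻¹ᵁ V)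
    (eW : W ≤ b ⁻¹ᵁ V) {O : P.Opens} (hO : O = p ⁻¹ᵁ U ⊓ q ⁻¹ᵁ W) (e₁ : O ≤ p ⁻¹ᵁ U) (e₂ : O ≤ q ⁻¹ᵁ W) :
    IsPushout (f.appLE V U eU) (b.appLE V W eW) (p.appLE U O e₁) (q.appLE W O e₂) :=
  (isIso_pushoutSection_iff H eW eU hO).mp (isIso_pushoutSection_of_isAffineOpen H eW eU hO hV hW hU)

set_option maxHeartbeats 1000000 in
/-- **The flattening ideal of a chart.** -/
theorem exists_chart_ideal [IsIntegral Y] (f : X ⟶ Y) [LocallyOfFiniteType f] (V : Y.affineOpens)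
    (hne : Nonempty (V : Y.Opens)) (U : X.affineOpens) (eU : U.1 ≤ f ⁻¹ᵁ V.1) :
    ∃ J : Ideal Γ(Y, V), J.FG ∧ J ≠ ⊥ ∧ ∀ {Y' : Scheme.{u}} [IsIntegral Y'] (b : Y' ⟶ Y)
      [IsIso (b.stalkMap (genericPoint Y'))] (W : Y'.affineOpens) (eW : W.1 ≤ b ⁻¹ᵁ V.1)
      (_ : genericPoint Y' ∈ W.1) (a : Γ(Y', W)) (I : Ideal Γ(Y', W)),
      a ≠ 0 → J.map (b.appLE V W eW).hom * I = Ideal.span {a} →
      ∀ {G : Scheme.{u}} (g : G ⟶ pullback f b) (π : G ⟶ Spec (Y'.presheaf.stalk (genericPoint Y'))),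
        IsPullback g π (pullback.snd f b) (Y'.fromSpecStalk (genericPoint Y')) →
        ((Ideal.Quotient.mk (RingHom.ker (g.app (pullback.fst f b ⁻¹ᵁ U.1 ⊓ pullback.snd f b ⁻¹ᵁ W.1)).hom)).comp
          ((pullback.snd f b).appLE W (pullback.fst f b ⁻¹ᵁ U.1 ⊓ pullback.snd f b ⁻¹ᵁ W.1)
            inf_le_right).hom).Flat := by
  letI : Algebra Γ(Y, V) Γ(X, U) := (f.appLE V U eU).hom.toAlgebra
  haveI : Algebra.FiniteType Γ(Y, V) Γ(X, U) := f.finiteType_appLE V.2 U.2 eU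
  obtain ⟨J, hJ, hJ0, hflat⟩ := exists_flattening_ideal_algebra (A := Γ(Y, V)) (S := Γ(X, U))
  refine ⟨J, hJ, hJ0, ?_⟩
  intro Y' _ b _ W eW hξW a I ha0 ha G g π hG
  let K : Type u := Y'.presheaf.stalk (genericPoint Y')
  letI : Field K := inferInstanceAs (Field Y'.functionField)
  let O : (pullback f b).Opens := pullback.fst f b ⁻¹ᵁ U.1 ⊓ pullback.snd f b ⁻¹ᵁ W.1
  -- the rings
  letI algAR : Algebra Γ(Y, V) Γ(Y', W) := (b.appLE V W eW).hom.toAlgebra
  letI algRK : Algebra Γ(Y', W) K := (Y'.presheaf.germ W.1 (genericPoint Y') hξW).hom.toAlgebra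
  letI algAK : Algebra Γ(Y, V) K := (b.appLE V W eW ≫ Y'.presheaf.germ W.1 (genericPoint Y') hξW).hom.toAlgebra
  haveI : IsScalarTower Γ(Y, V) Γ(Y', W) K := IsScalarTower.of_algebraMap_eq fun _ => rfl
  haveI : FaithfulSMul Γ(Y', W) K :=
    (faithfulSMul_iff_algebraMap_injective _ _).mpr (germ_injective_of_isIntegral Y' (genericPoint Y') hξW)
  have hbξ : b (genericPoint Y') ∈ V.1 := eW hξW
  have hgerm : b.appLE V W eW ≫ Y'.presheaf.germ W.1 (genericPoint Y') hξW =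
      Y.presheaf.germ V.1 (b (genericPoint Y')) hbξ ≫ b.stalkMap (genericPoint Y') := by
    rw [Scheme.Hom.germ_stalkMap, Scheme.Hom.appLE, Category.assoc, TopCat.Presheaf.germ_res]
  have hAinj : Function.Injective (algebraMap Γ(Y, V) K) := by
    show Function.Injective (b.appLE V W eW ≫ Y'.presheaf.germ W.1 (genericPoint Y') hξW).hom
    rw [hgerm]
    exact (ConcreteCategory.bijective_of_isIso (b.stalkMap (genericPoint Y'))).injective.comp
      (germ_injective_of_isIntegral Y (b (genericPoint Y')) hbξ)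
  haveI : FaithfulSMul Γ(Y, V) K := (faithfulSMul_iff_algebraMap_injective _ _).mpr hAinj
  haveI : IsFractionRing Γ(Y, V) K := IsFractionRing.of_field _ _ fun z => by
    obtain ⟨w, rfl⟩ := (ConcreteCategory.bijective_of_isIso (b.stalkMap (genericPoint Y'))).surjective z
    letI := TopCat.Presheaf.algebra_section_stalk Y.presheaf (⟨b (genericPoint Y'), hbξ⟩ : V.1)
    haveI := V.2.isLocalization_stalk ⟨b (genericPoint Y'), hbξ⟩
    obtain ⟨x, y, rfl⟩ := IsLocalization.exists_mk'_eq (V.2.primeIdealOf ⟨b (genericPoint Y'), hbξ⟩).asIdeal.primeCompl w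
    refine ⟨x, y, ?_⟩
    have hx : ∀ r : Γ(Y, V), algebraMap Γ(Y, V) K r =
        (b.stalkMap (genericPoint Y')).hom (algebraMap Γ(Y, V) (Y.presheaf.stalk (b (genericPoint Y'))) r) := fun r =>
      DFunLike.congr_fun (congrArg CommRingCat.Hom.hom hgerm) r
    rw [hx, hx, eq_div_iff ((IsLocalization.map_units (Y.presheaf.stalk (b (genericPoint Y'))) y).map (b.stalkMap (genericPoint Y')).hom).ne_zero,
      ← map_mul, IsLocalization.mk'_spec]
  let T : Type u := Γ(pullback f b, O)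
  letI algST : Algebra Γ(X, U) T := ((pullback.fst f b).appLE U.1 O inf_le_left).hom.toAlgebra
  letI algRT : Algebra Γ(Y', W) T := ((pullback.snd f b).appLE W.1 O inf_le_right).hom.toAlgebra
  letI algAT : Algebra Γ(Y, V) T :=
    ((algebraMap Γ(Y', W) T).comp (algebraMap Γ(Y, V) Γ(Y', W))).toAlgebra
  haveI : IsScalarTower Γ(Y, V) Γ(Y', W) T := IsScalarTower.of_algebraMap_eq fun _ => rfl
  have hsq := isPushout_chart (IsPullback.of_hasPullback f b) V.2 U.2 W.2 eU eW (O := O) rfl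
    inf_le_left inf_le_right
  haveI : IsScalarTower Γ(Y, V) Γ(X, U) T := IsScalarTower.of_algebraMap_eq fun r =>
    (DFunLike.congr_fun (congrArg CommRingCat.Hom.hom hsq.w) r).symm
  haveI : Algebra.IsPushout Γ(Y, V) Γ(Y', W) Γ(X, U) T :=
    CommRingCat.isPushout_iff_isPushout.mp hsq.flip
  haveI hmain : Module.Flat Γ(Y', W) (T ⧸ Submodule.torsion Γ(Y', W) T) :=
    hflat Γ(Y', W) K T ⟨a, I, ha0, ha⟩
  -- the generic fibre of the chart
  let η := Y'.fromSpecStalk (genericPoint Y')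
  have hηW : (⊤ : (Spec (Y'.presheaf.stalk (genericPoint Y'))).Opens) ≤ η ⁻¹ᵁ W.1 := fun z _ => by
    have : η z ∈ Set.range η := ⟨z, rfl⟩
    rw [Scheme.range_fromSpecStalk] at this
    exact this.mem_open W.1.isOpen hξW
  have e₁ : g ⁻¹ᵁ O ≤ g ⁻¹ᵁ O := le_rfl
  have hUY : g ⁻¹ᵁ O = g ⁻¹ᵁ O ⊓ π ⁻¹ᵁ ⊤ := (inf_top_eq _).symm
  have hsq' := isPushout_chart hG W.2 (isAffineOpen_chart f b V.2 U.2 W.2 eU eW)
    (isAffineOpen_top _) (inf_le_right : O ≤ pullback.snd f b ⁻¹ᵁ W.1) hηW hUY le_rfl le_top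
  have hK : η.appLE W.1 ⊤ hηW ≫ (Scheme.ΓSpecIso (Y'.presheaf.stalk (genericPoint Y'))).hom = Y'.presheaf.germ W.1 (genericPoint Y') hξW := by
    simp only [Scheme.Hom.appLE, η]
    rw [Scheme.fromSpecStalk_app hξW]
    simp only [Category.assoc, ← Functor.map_comp_assoc]
    rw [Subsingleton.elim ((homOfLE le_top).op ≫ (homOfLE hηW).op) (𝟙 _), CategoryTheory.Functor.map_id]
    simp
  let D : Type u := Γ(G, g ⁻¹ᵁ O)
  let toD : CommRingCat.of K ⟶ Γ(G, g ⁻¹ᵁ O) :=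
    (Scheme.ΓSpecIso (Y'.presheaf.stalk (genericPoint Y'))).inv ≫ π.appLE ⊤ (g ⁻¹ᵁ O) le_top
  have hsq'' : IsPushout ((pullback.snd f b).appLE W.1 O inf_le_right) (Y'.presheaf.germ W.1 (genericPoint Y') hξW)
      (g.appLE O (g ⁻¹ᵁ O) le_rfl) toD :=
    hsq'.of_iso (Iso.refl _) (Iso.refl _) (Scheme.ΓSpecIso (Y'.presheaf.stalk (genericPoint Y'))) (Iso.refl _)
      (by simp [O]) (by simpa using hK.symm.symm) (by simp [O]) (by simp [toD, O])
  letI : Algebra T D := (g.appLE O (g ⁻¹ᵁ O) le_rfl).hom.toAlgebra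
  letI : Algebra K D := toD.hom.toAlgebra
  letI : Algebra Γ(Y', W) D := ((algebraMap T D).comp (algebraMap Γ(Y', W) T)).toAlgebra
  haveI : IsScalarTower Γ(Y', W) T D := IsScalarTower.of_algebraMap_eq fun _ => rfl
  haveI : IsScalarTower Γ(Y', W) K D := IsScalarTower.of_algebraMap_eq fun r =>
    DFunLike.congr_fun (congrArg CommRingCat.Hom.hom hsq''.w) r
  haveI : Algebra.IsPushout Γ(Y', W) K T D := CommRingCat.isPushout_iff_isPushout.mp hsq''.flip
  haveI : IsFractionRing Γ(Y', W) K := by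
    haveI : Nonempty W.1 := ⟨⟨(genericPoint Y'), hξW⟩⟩
    exact functionField_isFractionRing_of_isAffineOpen Y' W.1 W.2
  have hker : LinearMap.ker (IsScalarTower.toAlgHom Γ(Y', W) T D).toLinearMap = Submodule.torsion Γ(Y', W) T :=
    ker_eq_torsion (K := K) _ (Algebra.IsPushout.out)
  have hmem : ∀ x : T, x ∈ RingHom.ker (g.app O).hom ↔ x ∈ Submodule.torsion Γ(Y', W) T := fun x => by
    rw [← hker, Scheme.Hom.app_eq_appLE]
    rfl
  show Module.Flat Γ(Y', W) (T ⧸ RingHom.ker (g.app O).hom)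
  exact Module.Flat.of_linearEquiv
    ((Submodule.Quotient.restrictScalarsEquiv Γ(Y', W) (RingHom.ker (g.app O).hom : Submodule T T)).symm.trans
      (Submodule.quotEquivOfEq _ _ (Submodule.ext hmem)))

end Groth.ValFlatten
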