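import Groth.Agent.ValFlatten.Stage
import Mathlib.RingTheory.Valuation.LocalSubring

/-!
# A flattening ideal for finitely generated algebras over a domain (helper92)

The valuation rings of the fraction field containing the base form a compact space, so finitely many
stages suffice; the product of the corresponding ideals flattens.
-/

set_option autoImplicit false

universe u

open Submodule

namespace Groth.ValFlatten

variable {K B : Type u} [Field K] [CommRing B] [Algebra K B]

/-- Compactness of the space of valuation rings containing a subring. -/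
theorem exists_finite_valCover {A : Type u} [CommRing A] [Algebra A K] (P : Finset K → Prop)
    (h : ∀ V : ValuationSubring K, (∀ a : A, algebraMap A K a ∈ V) → ∃ g, P g ∧ ∀ x ∈ g, x ∈ V) :
    ∃ G : Finset (Finset K), (∀ g ∈ G, P g) ∧ ∀ V : ValuationSubring K, (∀ a : A, algebraMap A K a ∈ V) →
      ∃ g ∈ G, ∀ x ∈ g, x ∈ V := by
  classical
  by_contra hG
  push Not at hG
  have hbad : ∀ G : Finset {g : Finset K // P g}, ∃ V : ValuationSubring K,
      (∀ a : A, algebraMap A K a ∈ V) ∧ ∀ g ∈ G, ∃ x ∈ (g.1 : Finset K), x ∉ V := by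
    intro G
    obtain ⟨V, hAV, hV⟩ := hG (G.image Subtype.val) (fun g hg => by
      obtain ⟨g, -, rfl⟩ := Finset.mem_image.mp hg
      exact g.2)
    exact ⟨V, hAV, fun g hg => hV g.1 (Finset.mem_image_of_mem _ hg)⟩
  choose V hAV hV using hbad
  let F : Ultrafilter (Finset {g : Finset K // P g}) := Ultrafilter.of Filter.atTop
  let W : ValuationSubring K :=
    { carrier := {x | ∀ᶠ G in (↑F : Filter (Finset {g : Finset K // P g})), x ∈ V G}
      mul_mem' := fun hx hy => (hx.and hy).mono fun G h => mul_mem h.1 h.2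
      one_mem' := Filter.Eventually.of_forall fun G => one_mem _
      add_mem' := fun hx hy => (hx.and hy).mono fun G h => add_mem h.1 h.2
      zero_mem' := Filter.Eventually.of_forall fun G => zero_mem _
      neg_mem' := fun hx => hx.mono fun G h => neg_mem h
      mem_or_inv_mem' := fun x => F.eventually_or.mp
        (Filter.Eventually.of_forall fun G => (V G).mem_or_inv_mem x) }
  obtain ⟨g, hg, hgW⟩ := h W fun a => Filter.Eventually.of_forall fun G => hAV G a
  have hev : ∀ᶠ G in (↑F : Filter (Finset {g : Finset K // P g})), ∀ x ∈ g, x ∈ V G := (Filter.eventually_all_finset g).mpr hgW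
  have hin : ∀ᶠ G in (↑F : Filter (Finset {g : Finset K // P g})), (⟨g, hg⟩ : {g : Finset K // P g}) ∈ G :=
    Ultrafilter.of_le _ ((Filter.eventually_ge_atTop {⟨g, hg⟩}).mono fun G hG => by simpa using hG)
  obtain ⟨G, hG₁, hG₂⟩ := (hev.and hin).exists
  obtain ⟨x, hx, hxV⟩ := hV G _ hG₂
  exact hxV (hG₁ x hx)

/-- A factor of a principal nonzero ideal in a local domain is principal. -/
theorem exists_generator_of_mul {R : Type u} [CommRing R] [IsDomain R] [IsLocalRing R] {I I' : Ideal R} {a : R}
    (ha : a ≠ 0) (h : I * I' = Ideal.span {a}) : ∃ e ∈ I, e ≠ 0 ∧ I = Ideal.span {e} := by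
  by_contra hne
  push Not at hne
  -- otherwise `a` is in `a * maximalIdeal`
  have key : ∀ x ∈ I, ∀ y ∈ I', ∃ c ∈ IsLocalRing.maximalIdeal R, x * y = c * a := by
    intro x hx y hy
    obtain ⟨c, hc⟩ := Ideal.mem_span_singleton'.mp (h ▸ Ideal.mul_mem_mul hx hy)
    refine ⟨c, (IsLocalRing.mem_maximalIdeal c).mpr fun hu => ?_, hc.symm⟩
    have hx0 : x ≠ 0 := fun hx0 => ha (by
      simpa [hx0, hu.ne_zero] using hc)
    refine hne x hx hx0 (le_antisymm (fun z hz => ?_) ((Ideal.span_singleton_le_iff_mem I).mpr hx))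
    obtain ⟨c', hc'⟩ := Ideal.mem_span_singleton'.mp (h ▸ Ideal.mul_mem_mul hz hy)
    obtain ⟨u, rfl⟩ := hu
    have hy0 : y ≠ 0 := fun hy0 => ha (by simpa [hy0] using hc)
    refine Ideal.mem_span_singleton'.mpr ⟨c' * ↑u⁻¹, mul_right_cancel₀ hy0 ?_⟩
    calc c' * ↑u⁻¹ * x * y = c' * ↑u⁻¹ * (x * y) := by ring
      _ = c' * ↑u⁻¹ * (↑u * a) := by rw [hc]
      _ = c' * a * (↑u⁻¹ * ↑u) := by ring
      _ = z * y := by rw [Units.inv_mul, mul_one, hc']
  have hmem : a ∈ IsLocalRing.maximalIdeal R * Ideal.span {a} := by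
    have : a ∈ I * I' := h ▸ Ideal.mem_span_singleton_self a
    refine Submodule.mul_induction_on (C := fun z => z ∈ IsLocalRing.maximalIdeal R * Ideal.span {a}) this
      (fun x hx y hy => ?_) fun x y hx hy => add_mem hx hy
    obtain ⟨c, hc, he⟩ := key x hx y hy
    rw [he]; exact Ideal.mul_mem_mul hc (Ideal.mem_span_singleton_self a)
  obtain ⟨c, hc, he⟩ := Ideal.mem_mul_span_singleton.mp hmem
  have : c = 1 := mul_right_cancel₀ ha (by rw [he, one_mul])
  exact (IsLocalRing.mem_maximalIdeal c).mp hc (this ▸ isUnit_one)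

/-- **Flattening ideal**: for finitely many elements of an algebra over the fraction field of a domain `A`
there is a nonzero finitely generated ideal such that the generated algebra is flat over every birational
extension on which the ideal becomes principal. -/
theorem exists_flattening_ideal {A : Type u} [CommRing A] [IsDomain A] [Algebra A K] [IsFractionRing A K]
    {σ : Type u} [Finite σ] (b : σ → B) :
    ∃ J : Ideal A, J.FG ∧ J ≠ ⊥ ∧ ∀ (R : Type u) [CommRing R] [Algebra A R] [Algebra R K]
      [IsScalarTower A R K] [FaithfulSMul R K] [Algebra R B] [IsScalarTower R K B],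
      (∃ (a : R) (I : Ideal R), a ≠ 0 ∧ J.map (algebraMap A R) * I = Ideal.span {a}) →
        Module.Flat R (Algebra.adjoin R (Set.range b)) := by
  classical
  obtain ⟨G, hG, hcover⟩ := exists_finite_valCover (A := A) (fun g : Finset K =>
    ∀ (R : Type u) [CommRing R] [Algebra A R] [Algebra R K] [IsScalarTower A R K] [FaithfulSMul R K]
      [Algebra R B] [IsScalarTower R K B],
      (↑g : Set K) ⊆ Set.range (algebraMap R K) → Module.Flat R (Algebra.adjoin R (Set.range b)))
    (fun V hV => (exists_stage b V hV).imp fun g hg => ⟨hg.2, hg.1⟩)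
  have hden : ∀ g : Finset K, ∃ (d : A) (n : K → A), d ≠ 0 ∧
      ∀ x ∈ g, algebraMap A K (n x) = algebraMap A K d * x := by
    intro g
    obtain ⟨d, hd⟩ := IsLocalization.exist_integer_multiples (nonZeroDivisors A) g id
    choose! n hn using hd
    exact ⟨d, n, nonZeroDivisors.ne_zero d.2, fun x hx => (hn x hx).trans (Algebra.smul_def _ _)⟩
  choose d n hd hn using hden
  let J : Finset K → Ideal A := fun g => Ideal.span ((insert (d g) (g.image (n g)) : Finset A) : Set A)
  refine ⟨∏ g ∈ G, J g, ?_, ?_, ?_⟩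
  · refine Finset.prod_induction _ Ideal.FG (fun I I' hI hI' => Submodule.FG.mul hI hI') ?_
      fun g _ => ⟨_, rfl⟩
    rw [Ideal.one_eq_top]
    exact ⟨{1}, by simp⟩
  · rw [← Ideal.zero_eq_bot, Finset.prod_ne_zero_iff]
    intro g _ h0
    have : d g ∈ (0 : Ideal A) := h0 ▸ Ideal.subset_span (Finset.mem_coe.mpr (Finset.mem_insert_self _ _))
    exact hd g (by simpa using this)
  intro R _ _ _ _ _ _ _ hR
  haveI : IsDomain R := (FaithfulSMul.algebraMap_injective R K).isDomain _
  have hu : ∀ (P : Ideal R) [P.IsMaximal] (y : P.primeCompl), IsUnit (algebraMap R K y) :=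
    fun P _ y => Ne.isUnit ((map_ne_zero_iff _ (FaithfulSMul.algebraMap_injective R K)).mpr
      fun h => y.2 (h ▸ P.zero_mem))
  refine Module.flat_of_localized_maximal _ fun P hP => ?_
  let R' := Localization.AtPrime P
  letI : Algebra R' K := (IsLocalization.lift (M := P.primeCompl) (hu P)).toAlgebra
  haveI : IsScalarTower R R' K := IsScalarTower.of_algebraMap_eq fun r => (IsLocalization.lift_eq _ r).symm
  haveI : FaithfulSMul R' K := (faithfulSMul_iff_algebraMap_injective _ _).mpr
    ((IsLocalization.lift_injective_iff _).mpr fun x y => by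
      rw [(IsLocalization.injective R' P.primeCompl_le_nonZeroDivisors).eq_iff,
        (FaithfulSMul.algebraMap_injective R K).eq_iff])
  have hinj := FaithfulSMul.algebraMap_injective R' K
  haveI : IsDomain R' := hinj.isDomain _
  haveI : IsScalarTower A R' K := IsScalarTower.of_algebraMap_eq fun x => by
    rw [IsScalarTower.algebraMap_apply A R K, IsScalarTower.algebraMap_apply R R' K,
      ← IsScalarTower.algebraMap_apply A R R']
  letI : Algebra R' B := ((algebraMap K B).comp (algebraMap R' K)).toAlgebra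
  haveI : IsScalarTower R' K B := IsScalarTower.of_algebraMap_eq fun _ => rfl
  haveI : IsScalarTower R R' B := IsScalarTower.of_algebraMap_eq fun x => by
    rw [IsScalarTower.algebraMap_apply R K B, IsScalarTower.algebraMap_apply R R' K]
    rfl
  -- a valuation ring dominating the local ring
  obtain ⟨V, hVR, hloc⟩ := IsLocalRing.exists_factor_valuationRing (algebraMap R' K)
  obtain ⟨g, hgG, hgV⟩ := hcover V fun x => by rw [IsScalarTower.algebraMap_apply A R' K]; exact hVR _
  obtain ⟨a, I, ha0, ha⟩ := hR
  have hmul : (J g).map (algebraMap A R') *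
      ((∏ g' ∈ G.erase g, J g').map (algebraMap A R') * I.map (algebraMap R R')) =
      Ideal.span {algebraMap R R' a} := by
    rw [← mul_assoc, ← Ideal.map_mul, Finset.mul_prod_erase _ _ hgG, IsScalarTower.algebraMap_eq A R R',
      ← Ideal.map_map, ← Ideal.map_mul, ha, Ideal.map_span, Set.image_singleton]
  obtain ⟨e, heJ, he0, he⟩ := exists_generator_of_mul
    ((map_ne_zero_iff _ (IsLocalization.injective R' P.primeCompl_le_nonZeroDivisors)).mpr ha0) hmul
  -- every element of the ideal is a multiple of `d g` in the valuation ring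
  have hdiv : ∀ z ∈ (J g).map (algebraMap A R'), ∃ w ∈ V, algebraMap R' K z = algebraMap A K (d g) * w := by
    rw [Ideal.map_span]
    intro z hz
    refine Submodule.span_induction (fun x hx => ?_) ⟨0, V.zero_mem, by simp⟩ (fun x y _ _ hx hy => ?_)
      (fun r x _ hx => ?_) hz
    · obtain ⟨x, hx, rfl⟩ := hx
      rw [← IsScalarTower.algebraMap_apply]
      rcases Finset.mem_insert.mp (Finset.mem_coe.mp hx) with rfl | hx
      · exact ⟨1, V.one_mem, (mul_one _).symm⟩
      · obtain ⟨k, hk, rfl⟩ := Finset.mem_image.mp hx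
        exact ⟨k, hgV k hk, hn g k hk⟩
    · obtain ⟨v, hv, hx⟩ := hx
      obtain ⟨w, hw, hy⟩ := hy
      exact ⟨v + w, add_mem hv hw, by rw [map_add, hx, hy, mul_add]⟩
    · obtain ⟨v, hv, hx⟩ := hx
      exact ⟨algebraMap R' K r * v, mul_mem (hVR r) hv, by rw [smul_eq_mul, map_mul, hx]; ring⟩
  obtain ⟨w, hwV, hw⟩ := hdiv e heJ
  have hdJ : algebraMap A R' (d g) ∈ (J g).map (algebraMap A R') :=
    Ideal.mem_map_of_mem _ (Ideal.subset_span (Finset.mem_coe.mpr (Finset.mem_insert_self _ _)))
  rw [he] at hdJ
  obtain ⟨u, hu'⟩ := Ideal.mem_span_singleton'.mp hdJ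
  have heK : algebraMap R' K e ≠ 0 := (map_ne_zero_iff _ hinj).mpr he0
  have hdK : algebraMap A K (d g) = algebraMap R' K u * algebraMap R' K e := by
    rw [← map_mul, hu', ← IsScalarTower.algebraMap_apply]
  have huw : algebraMap R' K u * w = 1 := by
    refine mul_right_cancel₀ heK ?_
    calc algebraMap R' K u * w * algebraMap R' K e = algebraMap A K (d g) * w := by rw [hdK]; ring
      _ = 1 * algebraMap R' K e := by rw [← hw, one_mul]
  have hunit : IsUnit u := by
    refine IsUnit.of_map ((algebraMap R' K).codRestrict V.toSubring hVR) u ?_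
    exact IsUnit.of_mul_eq_one ⟨w, hwV⟩ (Subtype.ext huw)
  obtain ⟨u, rfl⟩ := hunit
  have hgR : (↑g : Set K) ⊆ Set.range (algebraMap R' K) := by
    intro k hk
    have hnJ : algebraMap A R' (n g k) ∈ (J g).map (algebraMap A R') := Ideal.mem_map_of_mem _
      (Ideal.subset_span (Finset.mem_coe.mpr (Finset.mem_insert_of_mem (Finset.mem_image_of_mem _ hk))))
    rw [he] at hnJ
    obtain ⟨c, hc⟩ := Ideal.mem_span_singleton'.mp hnJ
    refine ⟨c * ↑u⁻¹, mul_left_cancel₀ ((map_ne_zero_iff _ (IsFractionRing.injective A K)).mpr (hd g)) ?_⟩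
    rw [← hn g k hk, IsScalarTower.algebraMap_apply A R' K (n g k), IsScalarTower.algebraMap_apply A R' K (d g),
      ← hc, ← hu', ← map_mul]
    congr 1
    calc (u : R') * e * (c * ↑u⁻¹) = c * e * (↑u⁻¹ * ↑u) := by ring
      _ = c * e := by rw [Units.inv_mul, mul_one]
  haveI := hG g hgG R' hgR
  -- the generated algebra localizes to the generated algebra
  haveI : IsLocalizedModule P.primeCompl (LinearMap.id : B →ₗ[R] B) :=
    isLocalizedModule_id P.primeCompl B R'
  have heq : (Subalgebra.toSubmodule (Algebra.adjoin R (Set.range b))).localized' R' P.primeCompl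
      (LinearMap.id : B →ₗ[R] B) = Subalgebra.toSubmodule (Algebra.adjoin R' (Set.range b)) := by
    rw [Algebra.adjoin_eq_span, Algebra.adjoin_eq_span, Submodule.localized'_span]
    simp
  haveI : Module.Flat R R' := IsLocalization.flat _ P.primeCompl
  haveI : Module.Flat R' ↥((Subalgebra.toSubmodule (Algebra.adjoin R (Set.range b))).localized' R' P.primeCompl
      (LinearMap.id : B →ₗ[R] B)) := by
    refine Module.Flat.of_linearEquiv (M := ↥(Algebra.adjoin R' (Set.range b))) ?_
    exact LinearEquiv.ofEq _ _ heq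
  haveI : Module.Flat R ↥((Subalgebra.toSubmodule (Algebra.adjoin R (Set.range b))).localized' R' P.primeCompl
      (LinearMap.id : B →ₗ[R] B)) := Module.Flat.trans R R' _
  haveI := Submodule.isLocalizedModule R' P.primeCompl (LinearMap.id : B →ₗ[R] B)
    (Subalgebra.toSubmodule (Algebra.adjoin R (Set.range b)))
  exact Module.Flat.of_linearEquiv (IsLocalizedModule.iso P.primeCompl
    ((Subalgebra.toSubmodule (Algebra.adjoin R (Set.range b))).toLocalized' R' P.primeCompl
      (LinearMap.id : B →ₗ[R] B)))

end Groth.ValFlatten
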