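import Groth.Agent.FlatMorOne.FlatLocusColimit
import Groth.Agent.RaynaudGruson.DomainFP
import Mathlib

/-!
# Flatness of birationally transported algebras: the stage attached to one valuation ring

For a domain `A` with fraction field `K`, a `K`-algebra `B` and finitely many elements `b` of `B`, every
valuation ring `V ⊇ A` of `K` has a finite subset `g` such that for every ring `A ⊆ R ⊆ K` containing `g`
the `R`-algebra generated by `b` inside `B` is flat (helper92).
-/

set_option autoImplicit false

universe u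

open TensorProduct MvPolynomial

namespace Groth.ValFlatten

/-- Base change of a quotient of a polynomial ring. -/
theorem flat_quotient_baseChange {C R : Type u} [CommRing C] [CommRing R] [Algebra C R] {σ : Type u}
    (I : Ideal (MvPolynomial σ C)) :
    Module.Flat R (R ⊗[C] (MvPolynomial σ C ⧸ I)) ↔
      Module.Flat R (MvPolynomial σ R ⧸ I.map (MvPolynomial.map (algebraMap C R))) := by
  let e₁ := Algebra.TensorProduct.tensorQuotientEquiv (R := C) R (MvPolynomial σ C) R I
  let e₂ : R ⊗[C] MvPolynomial σ C ≃ₐ[R] MvPolynomial σ R := MvPolynomial.algebraTensorAlgEquiv C R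
  have h : I.map (MvPolynomial.map (algebraMap C R)) =
      (I.map (Algebra.TensorProduct.includeRight (A := R) (R := C))).map
        (e₂ : R ⊗[C] MvPolynomial σ C →+* MvPolynomial σ R) := by
    rw [← Ideal.map_coe (Algebra.TensorProduct.includeRight (A := R) (R := C)), Ideal.map_map]
    congr 1
    refine RingHom.ext fun p => ?_
    simp [e₂]
  exact Module.Flat.equiv_iff (e₁.trans (Ideal.quotientEquivAlg _ _ e₂ h)).toLinearEquiv

variable {K B : Type u} [Field K] [CommRing B] [Algebra K B] {σ : Type u}

theorem aeval_map_eq (R : Type u) [CommRing R] [Algebra R K] [Algebra R B] [IsScalarTower R K B]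
    (b : σ → B) (p : MvPolynomial σ R) :
    aeval b (MvPolynomial.map (algebraMap R K) p) = aeval b p :=
  MvPolynomial.aeval_map_algebraMap K b p

/-- If finitely many relations over `R` generate the relations over the fraction field and cut out a flat
algebra then this algebra is the one generated by `b`. -/
theorem flat_adjoin_of_relations (R : Type u) [CommRing R] [IsDomain R] [Algebra R K] [IsFractionRing R K]
    [Algebra R B] [IsScalarTower R K B] (b : σ → B) (I : Ideal (MvPolynomial σ R))
    (hI : ∀ p ∈ I, aeval b p = 0)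
    (hker : ∀ p : MvPolynomial σ K, aeval b p = 0 → p ∈ I.map (MvPolynomial.map (algebraMap R K)))
    [Module.Flat R (MvPolynomial σ R ⧸ I)] : Module.Flat R (Algebra.adjoin R (Set.range b)) := by
  -- every polynomial over `K` becomes integral after scaling
  have hden : ∀ q : MvPolynomial σ K, ∃ (c : R) (q' : MvPolynomial σ R), c ≠ 0 ∧
      MvPolynomial.map (algebraMap R K) q' = C (algebraMap R K c) * q := by
    intro q
    induction q using MvPolynomial.induction_on with
    | C k =>
      obtain ⟨x, y, hy, rfl⟩ := IsFractionRing.div_surjective (A := R) k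
      have hy0 : algebraMap R K y ≠ 0 := IsLocalization.to_map_ne_zero_of_mem_nonZeroDivisors K le_rfl hy
      refine ⟨y, C x, nonZeroDivisors.ne_zero hy, ?_⟩
      rw [map_C, ← map_mul, mul_div_cancel₀ _ hy0]
    | add p q hp hq =>
      obtain ⟨c, p', hc, hp⟩ := hp
      obtain ⟨d, q', hd, hq⟩ := hq
      refine ⟨c * d, C d * p' + C c * q', mul_ne_zero hc hd, ?_⟩
      simp only [map_add, map_mul, map_C, hp, hq]
      ring
    | mul_X p i hp =>
      obtain ⟨c, p', hc, hp⟩ := hp
      exact ⟨c, p' * X i, hc, by simp only [map_mul, map_X, hp]; ring⟩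
  have hscale : ∀ q ∈ I.map (MvPolynomial.map (algebraMap R K)), ∃ (c : R) (q' : MvPolynomial σ R), c ≠ 0 ∧
      q' ∈ I ∧ MvPolynomial.map (algebraMap R K) q' = C (algebraMap R K c) * q := by
    intro q hq
    refine Submodule.span_induction (fun x hx => ?_) ?_ (fun x y _ _ hx hy => ?_) (fun r x _ hx => ?_) hq
    · obtain ⟨x, hx, rfl⟩ := hx
      exact ⟨1, x, one_ne_zero, hx, by simp⟩
    · exact ⟨1, 0, one_ne_zero, I.zero_mem, by simp⟩
    · obtain ⟨c, x', hc, hxI, hx⟩ := hx
      obtain ⟨d, y', hd, hyI, hy⟩ := hy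
      refine ⟨c * d, C d * x' + C c * y', mul_ne_zero hc hd, I.add_mem (I.mul_mem_left _ hxI) (I.mul_mem_left _ hyI), ?_⟩
      simp only [map_add, map_mul, map_C, hx, hy]
      ring
    · obtain ⟨c, x', hc, hxI, hx⟩ := hx
      obtain ⟨d, r', hd, hr⟩ := hden r
      refine ⟨d * c, r' * x', mul_ne_zero hd hc, I.mul_mem_left _ hxI, ?_⟩
      simp only [map_mul, smul_eq_mul, hx, hr]
      ring
  have hkerR : RingHom.ker (aeval b : MvPolynomial σ R →ₐ[R] B) = I := by
    refine le_antisymm (fun p hp => ?_) hI
    obtain ⟨c, p', hc, hpI, hp'⟩ := hscale _ (hker _ ((aeval_map_eq R b p).trans hp))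
    have hcp : p' = c • p := by
      refine MvPolynomial.map_injective _ (IsFractionRing.injective R K) ?_
      rw [hp', MvPolynomial.smul_eq_C_mul, map_mul, map_C]
    rw [← Ideal.Quotient.eq_zero_iff_mem]
    have h0 : c • Ideal.Quotient.mk I p = 0 := by
      rw [← Ideal.Quotient.eq_zero_iff_mem.mpr hpI, hcp]
      rfl
    exact (Module.Flat.isSMulRegular_of_isRegular (IsRegular.of_ne_zero hc)).right_eq_zero_of_smul h0
  have hrange : Algebra.adjoin R (Set.range b) = (aeval b : MvPolynomial σ R →ₐ[R] B).range :=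
    Algebra.adjoin_range_eq_range_aeval R b
  rw [hrange]
  exact Module.Flat.of_linearEquiv ((Ideal.quotientEquivAlgOfEq R hkerR.symm).trans
    (Ideal.quotientKerEquivRange _)).symm.toLinearEquiv

set_option synthInstance.maxHeartbeats 400000 in
set_option maxHeartbeats 2000000 in
/-- A flat algebra given by finitely many relations descends to a finite type subalgebra. -/
theorem exists_flat_relations_stage {A V : Type u} [CommRing A] [CommRing V] [Algebra A V] {σ : Type u}
    [Finite σ] (I : Ideal (MvPolynomial σ V)) (hfg : I.FG) [Module.Flat V (MvPolynomial σ V ⧸ I)] :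
    ∃ (S : Type u) (_ : CommRing S) (_ : Algebra A S) (j : S →ₐ[A] V) (T : Finset S)
      (I₀ : Ideal (MvPolynomial σ S)), Function.Injective j ∧ Algebra.adjoin A (T : Set S) = ⊤ ∧
      I₀.map (MvPolynomial.map j.toRingHom) = I ∧ Module.Flat S (MvPolynomial σ S ⧸ I₀) := by
  classical
  obtain ⟨F, hF⟩ := hfg
  -- the coefficients of the relations
  let coeffs : Set V := ⋃ p ∈ F, (p.coeffs : Set V)
  let C₀ : Subalgebra A V := Algebra.adjoin A coeffs
  have hlift : ∀ p ∈ F, p ∈ Set.range (MvPolynomial.map (algebraMap C₀ V)) := by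
    intro p hp
    exact (MvPolynomial.mem_range_map_iff_coeffs_subset).mpr fun x hx =>
      ⟨⟨x, Algebra.subset_adjoin (Set.mem_biUnion hp hx)⟩, rfl⟩
  choose! lift hlift using hlift
  let I₀ : Ideal (MvPolynomial σ C₀) := Ideal.span (F.image lift : Set _)
  have hI₀ : I₀.map (MvPolynomial.map (algebraMap C₀ V)) = I := by
    rw [Ideal.map_span, ← hF]
    congr 1
    ext x
    simp only [Finset.coe_image, Set.mem_image, Finset.mem_coe, exists_exists_and_eq_and]
    exact ⟨fun ⟨p, hp, h⟩ => by rwa [← h, hlift p hp], fun hx => ⟨x, hx, hlift x hx⟩⟩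
  haveI : Algebra.FinitePresentation C₀ (MvPolynomial σ C₀ ⧸ I₀) := .quotient ⟨_, rfl⟩
  haveI : Module.Flat V (V ⊗[C₀] (MvPolynomial σ C₀ ⧸ I₀)) := by
    rw [flat_quotient_baseChange, hI₀]
    infer_instance
  let ι := {S : Subalgebra C₀ V // S.FG}
  haveI : Nonempty ι := ⟨⟨⊥, Subalgebra.fg_bot⟩⟩
  haveI : IsDirectedOrder ι := ⟨fun i j => ⟨⟨i.1 ⊔ j.1, i.2.sup j.2⟩, le_sup_left (b := j.1), le_sup_right (a := i.1)⟩⟩
  obtain ⟨⟨S, hS⟩, hflat⟩ := FlatMorOne.exists_flat_stage_of_colimit (A₀ := C₀) (ι := ι) (G := fun i => ↥i.1)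
    (fun i j h => Subalgebra.inclusion h) (A := V) (fun i => i.1.val) (fun i j h => rfl)
    (fun v => ⟨⟨Algebra.adjoin C₀ {v}, ⟨{v}, by simp⟩⟩,
      ⟨v, Algebra.self_mem_adjoin_singleton _ _⟩, rfl⟩)
    (fun i x hx => ⟨i, le_rfl, Subtype.ext hx⟩) (B₀ := MvPolynomial σ C₀ ⧸ I₀) (MvPolynomial σ C₀ ⧸ I₀)
  letI : CommRing S := S.toCommRing
  have hflat' : Module.Flat S (MvPolynomial σ S ⧸ I₀.map (MvPolynomial.map (algebraMap C₀ S))) :=
    (flat_quotient_baseChange I₀).mp hflat
  have hcfin : coeffs.Finite := F.finite_toSet.biUnion fun p _ => p.coeffs.finite_toSet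
  haveI : Algebra.FiniteType A C₀ :=
    (Subalgebra.fg_iff_finiteType _).mp (Subalgebra.fg_def.mpr ⟨coeffs, hcfin, rfl⟩)
  haveI : Algebra.FiniteType C₀ S := (Subalgebra.fg_iff_finiteType _).mp hS
  obtain ⟨T, hT⟩ := (Algebra.FiniteType.trans ‹_› ‹_› : Algebra.FiniteType A S).out
  exact ⟨S, inferInstance, inferInstance, S.val.restrictScalars A, T,
    I₀.map (MvPolynomial.map (algebraMap C₀ S)), Subtype.val_injective, hT, by
      rw [Ideal.map_map, ← hI₀]
      congr 1
      exact RingHom.ext fun p => MvPolynomial.map_map _ _ p, hflat'⟩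

set_option synthInstance.maxHeartbeats 400000 in
set_option maxHeartbeats 2000000 in
/-- The stage attached to a valuation ring. -/
theorem exists_stage {A : Type u} [CommRing A] [Algebra A K] [IsFractionRing A K] (b : σ → B) [Finite σ]
    (V : ValuationSubring K) (hAV : ∀ a : A, algebraMap A K a ∈ V) :
    ∃ g : Finset K, (∀ x ∈ g, x ∈ V) ∧ ∀ (R : Type u) [CommRing R] [Algebra A R] [Algebra R K]
      [IsScalarTower A R K] [FaithfulSMul R K] [Algebra R B] [IsScalarTower R K B],
      (↑g : Set K) ⊆ Set.range (algebraMap R K) → Module.Flat R (Algebra.adjoin R (Set.range b)) := by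
  classical
  letI : Algebra A V := ((algebraMap A K).codRestrict V.toSubring hAV).toAlgebra
  haveI : IsScalarTower A V K := IsScalarTower.of_algebraMap_eq fun a => rfl
  letI : Algebra V B := ((algebraMap K B).comp (algebraMap V K)).toAlgebra
  haveI : IsScalarTower V K B := IsScalarTower.of_algebraMap_eq fun a => rfl
  let φ : MvPolynomial σ V →ₐ[V] B := aeval b
  let I := RingHom.ker φ
  let Q := MvPolynomial σ V ⧸ I
  haveI : Module.Flat V Q := by
    haveI : Module.IsTorsionFree V B := by
      refine ⟨fun c hc x y hxy => ?_⟩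
      have hc0 : algebraMap V K c ≠ 0 :=
        (map_ne_zero_iff _ (IsFractionRing.injective V K)).mpr hc.ne_zero
      exact (IsUnit.smul_left_cancel (Ne.isUnit hc0)).mp
        ((algebraMap_smul K c x).trans (hxy.trans (algebraMap_smul K c y).symm))
    haveI : Module.IsTorsionFree V Q := Function.Injective.moduleIsTorsionFree
      (Ideal.kerLiftAlg φ).toLinearMap (Ideal.kerLiftAlg_injective φ)
      (fun c x => map_smul (Ideal.kerLiftAlg φ).toLinearMap c x)
    exact Module.Flat.flat_iff_torsion_eq_bot_of_isBezout.mpr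
      (Submodule.isTorsionFree_iff_torsion_eq_bot.mp inferInstance)
  haveI : Module.FinitePresentation (MvPolynomial σ V) Q := RaynaudGruson.DomainFP.finitePresentation_of_flat V (MvPolynomial σ V) Q
  have hfg : I.FG := by
    have := Module.FinitePresentation.fg_ker (Submodule.mkQ (I : Submodule (MvPolynomial σ V) (MvPolynomial σ V))) (Submodule.mkQ_surjective _)
    rwa [Submodule.ker_mkQ] at this
  obtain ⟨S, _, _, j, T, I₀, hj, hT, hI₀, hflat⟩ := exists_flat_relations_stage (A := A) I hfg
  refine ⟨(T.image j).image (algebraMap V K), fun x hx => ?_, ?_⟩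
  · obtain ⟨v, -, rfl⟩ := Finset.mem_image.mp hx
    exact v.2
  intro R _ _ _ _ _ _ _ hg
  have hinj := FaithfulSMul.algebraMap_injective R K
  haveI : IsDomain R := hinj.isDomain _
  haveI : IsFractionRing R K := IsFractionRing.of_field R K fun z => by
    obtain ⟨x, y, -, rfl⟩ := IsFractionRing.div_surjective (A := A) z
    exact ⟨algebraMap A R x, algebraMap A R y, by rw [← IsScalarTower.algebraMap_apply, ← IsScalarTower.algebraMap_apply]⟩
  -- `S` maps to `R`
  let toK : S →ₐ[A] K := (IsScalarTower.toAlgHom A V K).comp j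
  have hSR : ∀ v : S, toK v ∈ (IsScalarTower.toAlgHom A R K).range := by
    intro v
    have hv : v ∈ Algebra.adjoin A (T : Set S) := hT ▸ trivial
    refine Algebra.adjoin_induction (fun x hx => hg (Finset.mem_image_of_mem _ (Finset.mem_image_of_mem _ hx)))
      (fun a => by rw [AlgHom.commutes]; exact Subalgebra.algebraMap_mem _ a)
      (fun _ _ _ _ hx hy => by rw [map_add]; exact add_mem hx hy)
      (fun _ _ _ _ hx hy => by rw [map_mul]; exact mul_mem hx hy) hv
  let ψ : S →ₐ[A] R := (AlgEquiv.ofInjective (IsScalarTower.toAlgHom A R K) hinj).symm.toAlgHom.comp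
    (toK.codRestrict _ hSR)
  have hψ : ∀ v : S, algebraMap R K (ψ v) = algebraMap V K (j v) := fun v =>
    congrArg Subtype.val ((AlgEquiv.ofInjective (IsScalarTower.toAlgHom A R K) hinj).apply_symm_apply
      (toK.codRestrict _ hSR v))
  letI : Algebra S R := ψ.toRingHom.toAlgebra
  have hC : (algebraMap R K).comp (algebraMap S R) = (algebraMap V K).comp j.toRingHom :=
    RingHom.ext fun c => hψ c
  haveI : Module.Flat R (R ⊗[S] (MvPolynomial σ S ⧸ I₀)) := inferInstance
  haveI : Module.Flat R (MvPolynomial σ R ⧸ I₀.map (MvPolynomial.map (algebraMap S R))) :=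
    (flat_quotient_baseChange I₀).mp inferInstance
  have hmap : (I₀.map (MvPolynomial.map (algebraMap S R))).map (MvPolynomial.map (algebraMap R K)) =
      I.map (MvPolynomial.map (algebraMap V K)) := by
    rw [← hI₀, Ideal.map_map, Ideal.map_map]
    congr 1
    refine RingHom.ext fun p => ?_
    rw [RingHom.comp_apply, RingHom.comp_apply, MvPolynomial.map_map, MvPolynomial.map_map, hC]
  refine flat_adjoin_of_relations (K := K) R b (I₀.map (MvPolynomial.map (algebraMap S R))) ?_ ?_
  · intro p hp
    have h0 : MvPolynomial.map (algebraMap R K) p ∈ RingHom.ker (aeval b : MvPolynomial σ K →ₐ[K] B) := by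
      have h1 : MvPolynomial.map (algebraMap R K) p ∈ I.map (MvPolynomial.map (algebraMap V K)) :=
        hmap ▸ Ideal.mem_map_of_mem _ hp
      refine (Ideal.map_le_iff_le_comap.mpr fun q hq => ?_) h1
      exact (aeval_map_eq V b q).trans hq
    exact (aeval_map_eq R b p).symm.trans h0
  · intro p hp
    rw [hmap]
    -- clear the denominators inside `V`
    have hden : ∀ q : MvPolynomial σ K, ∃ (c : V) (q' : MvPolynomial σ V), c ≠ 0 ∧
        MvPolynomial.map (algebraMap V K) q' = C (algebraMap V K c) * q := by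
      intro q
      induction q using MvPolynomial.induction_on with
      | C k =>
        obtain ⟨x, y, hy, rfl⟩ := IsFractionRing.div_surjective (A := V) k
        have hy0 : algebraMap V K y ≠ 0 := IsLocalization.to_map_ne_zero_of_mem_nonZeroDivisors K le_rfl hy
        refine ⟨y, C x, nonZeroDivisors.ne_zero hy, ?_⟩
        rw [map_C, ← map_mul, mul_div_cancel₀ _ hy0]
      | add p q hp hq =>
        obtain ⟨c, p', hc, hp⟩ := hp
        obtain ⟨d, q', hd, hq⟩ := hq
        refine ⟨c * d, C d * p' + C c * q', mul_ne_zero hc hd, ?_⟩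
        simp only [map_add, map_mul, map_C, hp, hq]
        ring
      | mul_X p i hp =>
        obtain ⟨c, p', hc, hp⟩ := hp
        exact ⟨c, p' * X i, hc, by simp only [map_mul, map_X, hp]; ring⟩
    obtain ⟨c, q, hc, hq⟩ := hden p
    have hqI : q ∈ I := by
      show aeval b q = 0
      rw [← aeval_map_eq (K := K) V b q, hq, map_mul, hp, mul_zero]
    have hu : IsUnit (C (algebraMap V K c) : MvPolynomial σ K) :=
      (Ne.isUnit ((map_ne_zero_iff _ (IsFractionRing.injective V K)).mpr hc)).map C
    exact (Ideal.unit_mul_mem_iff_mem _ hu).mp (hq ▸ Ideal.mem_map_of_mem _ hqI)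

end Groth.ValFlatten
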